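import Cfsg.Agent.Partitions.Cyclic
import Cfsg.Agent.CITGroups.CNFrame
import Cfsg.Agent.CITGroups.Closed
import Cfsg.Agent.SuzukiUnique.Zassenhaus
import Cfsg.Agent.Classical.Misc.SmallPSL

/-!
Trivial solvable radical and a component with an element of even order greater than two and two involutions: its
normaliser is strongly embedded, with the component as a Frobenius kernel, and the group is a linear or Suzuki group.
-/

set_option autoImplicit false
set_option linter.unusedSectionVars false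
set_option linter.style.haveILetI false

namespace Cfsg.Lib.Partitions

open Subgroup Cfsg.Lib.PrimePowerOrders

universe u

variable {G : Type u} [Group G] [Finite G] (P : Part G)

theorem sq_one {u : G} (hu : orderOf u = 2) : u * u = 1 := by rw [← pow_two, ← hu, pow_orderOf_eq_one]

theorem inv_self {u : G} (hu : orderOf u = 2) : u⁻¹ = u := inv_eq_of_mul_eq_one_right (sq_one hu)

theorem ne_one_inv {u : G} (hu : orderOf u = 2) : u ≠ 1 := fun e => by rw [e, orderOf_one] at hu; omega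

/-- A `q`-element normalising a nontrivial `q`-subgroup centralises a nontrivial element of it. -/
theorem exists_fixed {q i : ℕ} [Fact q.Prime] (V : Subgroup G) (hV : IsPGroup q V) (hne : V ≠ ⊥) {g : G}
    (hn : g ∈ normalizer (V : Set G)) (hg : g ^ q ^ i = 1) : ∃ z ∈ V, z ≠ 1 ∧ Commute g z := by
  set Q := V ⊔ zpowers g
  have hgp : IsPGroup q (zpowers g) := by
    rintro ⟨_, k, rfl⟩
    exact ⟨i, Subtype.ext (by
      show (g ^ k) ^ q ^ i = 1
      rw [← zpow_natCast (g ^ k), ← zpow_mul, mul_comm, zpow_mul, zpow_natCast, hg, one_zpow])⟩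
  have hle : zpowers g ≤ normalizer (V : Set G) := zpowers_le.2 hn
  have hQp : IsPGroup q ↥Q := IsPGroup.to_sup_of_normal_left' hV hgp hle
  haveI : Group.IsNilpotent ↥Q := hQp.isNilpotent
  haveI : (V.subgroupOf Q).Normal :=
    Subgroup.normal_subgroupOf_of_le_normalizer (sup_le le_normalizer hle)
  have hVQ : V.subgroupOf Q ≠ ⊥ := fun e => hne (by
    rw [eq_bot_iff]
    intro v hv
    have : (⟨v, mem_sup_left hv⟩ : Q) ∈ V.subgroupOf Q := mem_subgroupOf.2 hv
    rw [e, Subgroup.mem_bot] at this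
    exact Subgroup.mem_bot.2 (congrArg Subtype.val this))
  obtain ⟨z, ⟨hzV, hzc⟩, hz1⟩ :=
    (bot_or_exists_ne_one _).resolve_left (Cfsg.Lib.Coprime.inf_center_ne_bot (V.subgroupOf Q) hVQ)
  exact ⟨z, mem_subgroupOf.1 hzV, fun e => hz1 (Subtype.ext e),
    congrArg Subtype.val (mem_center_iff.1 hzc ⟨g, mem_sup_right (mem_zpowers g)⟩)⟩

/-- The data: a component with an element of even order greater than two and two involutions. -/
structure Big (x a b : G) : Prop where
  hss : NoRadical G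
  nil : Group.IsNilpotent (P.comp x)
  big : 2 < orderOf x
  ha : a ∈ P.comp x
  hb : b ∈ P.comp x
  ha2 : orderOf a = 2
  hb2 : orderOf b = 2
  hab : a ≠ b
  ns : normalizer (P.comp x : Set G) ≠ P.comp x

namespace Big

variable {P} {x a b : G} (B : Big P x a b)
include B

theorem x_ne : x ≠ 1 := fun e => by
  have := B.big
  rw [e, orderOf_one] at this
  omega

theorem comp_eq {w : G} (hw : w ∈ P.comp x) (hw1 : w ≠ 1) : P.comp w = P.comp x := P.eq x w B.x_ne hw hw1

theorem order_two_of_commute {w h : G} (hw : w ∈ P.comp x) (hw2 : orderOf w = 2) (hh : h ∉ P.comp x)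
    (hc : Commute h w) : orderOf h = 2 := by
  rw [← hw2]
  exact (P.order_eq (fun e => hh (by rw [e]; exact one_mem _)) (ne_one_inv hw2) hc
    (by rwa [B.comp_eq hw (ne_one_inv hw2)])).1

/-- An element outside commuting with an involution of the component inverts what centralises both. -/
theorem inverts {w h c : G} (hw : w ∈ P.comp x) (hw2 : orderOf w = 2) (hh : h ∉ P.comp x)
    (hc : Commute h w) (hcX : c ∈ P.comp x) (hcw : Commute c w) : h * c * h⁻¹ = c⁻¹ := by
  have h1 : orderOf (h * c) = 2 :=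
    B.order_two_of_commute hw hw2 (fun e => hh ((mul_mem_cancel_right hcX).1 e)) (hc.mul_left hcw)
  rw [inv_self (B.order_two_of_commute hw hw2 hh hc)]
  exact eq_inv_of_mul_eq_one_left (by rw [show h * c * h * c = (h * c) * (h * c) by group, sq_one h1])

/-- A central involution of the component has centraliser in it. -/
theorem cent_central {z : G} (hz : z ∈ P.comp x) (hz2 : orderOf z = 2) (hzc : ∀ c ∈ P.comp x, Commute c z)
    {g : G} (hg : Commute g z) : g ∈ P.comp x := by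
  classical
  by_contra hgX
  set X := P.comp x
  have hinv : ∀ h, h ∉ X → Commute h z → ∀ c ∈ X, h * c * h⁻¹ = c⁻¹ := fun h hh hc c hcX =>
    B.inverts hz hz2 hh hc hcX (hzc c hcX)
  -- the component is abelian
  have habX : ∀ c ∈ X, ∀ d ∈ X, Commute c d := by
    intro c hc d hd
    have e1 := hinv g hgX hg _ (X.mul_mem hc hd)
    rw [show g * (c * d) * g⁻¹ = (g * c * g⁻¹) * (g * d * g⁻¹) by group, hinv g hgX hg c hc, hinv g hgX hg d hd,
      ← mul_inv_rev, inv_inj] at e1
    exact e1.symm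
  have hgI : ∀ w ∈ X, orderOf w = 2 → Commute g w := fun w hw hw2 => by
    have h1 := hinv g hgX hg w hw
    rw [inv_self hw2] at h1
    exact mul_inv_eq_iff_eq_mul.1 h1
  have hg2 : orderOf g = 2 := B.order_two_of_commute hz hz2 hgX hg
  -- the centraliser of an involution of the component
  have hcw : ∀ w ∈ X, orderOf w = 2 → ∀ h : G, Commute h w → h ∈ X ∨ g * h ∈ X := by
    intro w hw hw2 h hh
    by_contra hcon
    push Not at hcon
    obtain ⟨h1, h2⟩ := hcon
    have i1 : ∀ c ∈ X, h * c * h⁻¹ = c⁻¹ := fun c hc => B.inverts hw hw2 h1 hh hc (habX c hc w hw)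
    have i2 := B.inverts hw hw2 h2 ((hgI w hw hw2).mul_left hh) (P.mem x) (habX x (P.mem x) w hw)
    rw [show g * h * x * (g * h)⁻¹ = g * (h * x * h⁻¹) * g⁻¹ by group, i1 x (P.mem x),
      hinv g hgX hg _ (X.inv_mem (P.mem x)), inv_inv] at i2
    have h3 : orderOf x ∣ 2 := orderOf_dvd_of_pow_eq_one (by
      rw [pow_two]; nth_rw 2 [i2]; exact mul_inv_cancel x)
    have := Nat.le_of_dvd two_pos h3
    have := B.big
    omega
  have hin : ∀ w ∈ X, orderOf w = 2 → ∀ h : G, (h ∈ X ∨ g * h ∈ X) → Commute h w := by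
    intro w hw hw2 h hh
    rcases hh with hh | hh
    · exact habX h hh w hw
    · have h1 := ((hgI w hw hw2).inv_left).mul_left (habX _ hh w hw)
      rwa [inv_mul_cancel_left] at h1
  set K := centralizer ({a} : Set G)
  have hK : ∀ h : G, h ∈ K ↔ Commute h a := fun h => mem_centralizer_singleton_iff
  have hKw : ∀ w ∈ X, orderOf w = 2 → ∀ h : G, Commute h w → h ∈ K := fun w hw hw2 h hh =>
    (hK h).2 (hin a B.ha B.ha2 h (hcw w hw hw2 h hh))
  have hKX : ∀ c ∈ X, c ∈ K := fun c hc => (hK c).2 (hin a B.ha B.ha2 c (Or.inl hc))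
  -- centralisers of outer involutions are elementary abelian
  have hout : ∀ u, u ∉ X → Commute u a → ∀ h : G, Commute h u → h * h = 1 := by
    intro u hu hua h hh
    have hu2 := B.order_two_of_commute B.ha B.ha2 hu hua
    have hu1 := ne_one_inv hu2
    have hall : ∀ w ∈ X, orderOf w = 2 → Commute u w := fun w hw hw2 => by
      have h1 := B.inverts B.ha B.ha2 hu hua hw (habX w hw a B.ha)
      rw [inv_self hw2] at h1
      exact mul_inv_eq_iff_eq_mul.1 h1
    have hord : ∀ k : G, k ∉ P.comp u → Commute k u → k * k = 1 := fun k hk hku => by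
      have h1 := (P.order_eq (fun e => hk (by rw [e]; exact one_mem _)) hu1 hku hk).1
      exact sq_one (h1.trans hu2)
    by_cases hhU : h ∈ P.comp u
    swap
    · exact hord h hhU hh
    by_cases hh1 : h = 1
    · rw [hh1, one_mul]
    have hinvh : ∀ w ∈ X, orderOf w = 2 → w * h * w = h⁻¹ := fun w hw hw2 => by
      have hwU : w ∉ P.comp u := fun e => hu (by
        show u ∈ P.comp x
        rw [← B.comp_eq hw (ne_one_inv hw2), P.eq u w hu1 e (ne_one_inv hw2)]
        exact P.mem u)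
      have h1 := hord (w * h) (fun e => hwU ((mul_mem_cancel_right hhU).1 e)) ((hall w hw hw2).symm.mul_left hh)
      exact eq_inv_of_mul_eq_one_left (by rw [show w * h * w * h = (w * h) * (w * h) by group, h1])
    have hab2 : orderOf (a * b) = 2 := orderOf_eq_prime (by
        rw [pow_two, show a * b * (a * b) = a * (b * a) * b by group, (habX b B.hb a B.ha).eq,
          show a * (a * b) * b = (a * a) * (b * b) by group, sq_one B.ha2, sq_one B.hb2, one_mul])
      fun e => B.hab (by rw [← inv_self B.hb2]; exact eq_inv_of_mul_eq_one_left e)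
    have h1 := hinvh _ (X.mul_mem B.ha B.hb) hab2
    rw [show a * b * h * (a * b) = a * b * h * (b * a) by rw [(habX a B.ha b B.hb).eq],
      show a * b * h * (b * a) = a * (b * h * b) * a by group, hinvh b B.hb B.hb2] at h1
    have h2 := congrArg Inv.inv (hinvh a B.ha B.ha2)
    rw [inv_inv, mul_inv_rev, mul_inv_rev, inv_self B.ha2, ← mul_assoc, h1] at h2
    calc h * h = h * h⁻¹ := by nth_rw 2 [← h2]
      _ = 1 := mul_inv_cancel h
  -- elements of 2-power order in the normaliser centralise `a`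
  have htwo : ∀ h ∈ normalizer (X : Set G), ∀ i, h ^ 2 ^ i = 1 → h ∈ K := by
    intro h hh i hi
    haveI : Fact (Nat.Prime 2) := ⟨Nat.prime_two⟩
    haveI := B.nil
    set V := omegaCenter X 2
    have hVn : h ∈ normalizer (V : Set G) := mem_normalizer_of_le fun v hv =>
      ⟨(mem_normalizer_iff.1 hh v).1 hv.1, fun c hc => habX _ ((mem_normalizer_iff.1 hh v).1 hv.1) c hc,
        by rw [conj_pow, hv.2.2, mul_one, mul_inv_cancel]⟩
    obtain ⟨w, hw, hw1, hwc⟩ := exists_fixed V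
      (fun v => ⟨1, Subtype.ext (by rw [pow_one]; exact v.2.2.2)⟩)
      (omegaCenter_ne_bot (by rw [← B.ha2]; exact Subgroup.orderOf_dvd_natCard X B.ha)) hVn hi
    exact hKw w hw.1 (orderOf_eq_prime hw.2.2 hw1) h hwc
  -- some element of the normaliser moves `a`
  obtain ⟨n, hn, hnK⟩ : ∃ n ∈ normalizer (X : Set G), n ∉ K := by
    by_contra hall
    push Not at hall
    obtain ⟨c, hc, hca⟩ := not_isolated B.hss B.ha2
    set v := c * a * c⁻¹
    have hv2 : orderOf v = 2 := by rw [ord_conj, B.ha2]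
    by_cases hvX : v ∈ X
    · exact hca (mul_inv_eq_iff_eq_mul.2 ((hK c).1 (hall c (P.norm_of_mem B.x_ne B.ha (ne_one_inv B.ha2) hvX))).eq)
    · have h1 := hout v hvX hc.symm (c * x * c⁻¹) ((habX x (P.mem x) a B.ha).map (MulAut.conj c).toMonoidHom)
      have h2 : orderOf (c * x * c⁻¹) ∣ 2 := orderOf_dvd_of_pow_eq_one (by rw [pow_two, h1])
      rw [ord_conj] at h2
      have := Nat.le_of_dvd two_pos h2
      have := B.big
      omega
  -- with odd order
  obtain ⟨k, hk, hkK, hkodd⟩ : ∃ k ∈ normalizer (X : Set G), k ∉ K ∧ (orderOf k).Coprime 2 := by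
    haveI : Fact (Nat.Prime 2) := ⟨Nat.prime_two⟩
    obtain ⟨e₁, e₂, he, ⟨i, hi⟩, hco⟩ := split 2 n
    refine ⟨n ^ e₂, pow_mem hn _, fun h => hnK ?_, hco⟩
    rw [he]
    exact K.mul_mem (htwo _ (pow_mem hn _) i hi) h
  -- adjusted so that it moves `g` by a 2-element
  haveI : Fact (Nat.Prime 2) := ⟨Nat.prime_two⟩
  have hgK : g ∈ K := (hK g).2 (hgI a B.ha B.ha2)
  have hkg : ∀ h ∈ normalizer (X : Set G), g⁻¹ * (h * g * h⁻¹) ∈ X := by
    intro h hh
    have hi : h⁻¹ * a * h ∈ X := by simpa using (mem_normalizer_iff.1 (inv_mem hh) a).1 B.ha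
    have hcomm : Commute (h * g * h⁻¹) a := by
      show h * g * h⁻¹ * a = a * (h * g * h⁻¹)
      calc h * g * h⁻¹ * a = h * (g * (h⁻¹ * a * h)) * h⁻¹ := by group
        _ = h * ((h⁻¹ * a * h) * g) * h⁻¹ := by
          rw [(hgI _ hi (by rw [show h⁻¹ * a * h = h⁻¹ * a * h⁻¹⁻¹ by rw [inv_inv], ord_conj, B.ha2])).eq]
        _ = a * (h * g * h⁻¹) := by group
    rcases hcw a B.ha B.ha2 _ hcomm with h1 | h1
    · exact absurd ((mem_normalizer_iff.1 hh g).2 h1) hgX
    · rwa [inv_self hg2]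
  obtain ⟨e₁, e₂, hx0, ⟨i, hi⟩, hco⟩ := split 2 (g⁻¹ * (k * g * k⁻¹))
  have hxX := hkg k hk
  set x₂ := (g⁻¹ * (k * g * k⁻¹)) ^ e₁
  set x' := (g⁻¹ * (k * g * k⁻¹)) ^ e₂
  obtain ⟨j, hj⟩ := exists_pow_eq_self_of_coprime (x := x') (n := 2) hco.symm
  set s := x' ^ j
  have hs2 : s * s = x' := by
    rw [← pow_two, show s ^ 2 = (x' ^ 2) ^ j from pow_right_comm x' j 2, hj]
  have hx'X : x' ∈ X := pow_mem hxX _
  have hsX : s ∈ X := pow_mem hx'X _
  have hsg : g * s * g⁻¹ = s⁻¹ := hinv g hgX hg s hsX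
  set A := s * k
  have hA : g⁻¹ * (A * g * A⁻¹) = x₂ := by
    have h2 : g⁻¹ * s * g = s⁻¹ := by
      have h3 := hsg
      rw [inv_self hg2] at h3 ⊢
      exact h3
    calc g⁻¹ * (A * g * A⁻¹) = (g⁻¹ * s * g) * (g⁻¹ * (k * g * k⁻¹)) * s⁻¹ := by simp only [A]; group
      _ = s⁻¹ * (x₂ * x') * s⁻¹ := by rw [h2, ← hx0]
      _ = s⁻¹ * x₂ * (s * s) * s⁻¹ := by rw [hs2]; group
      _ = x₂ := by
        rw [show s⁻¹ * x₂ * (s * s) * s⁻¹ = s⁻¹ * (x₂ * s) by group,
          (habX x₂ (pow_mem hxX _) s hsX).eq, inv_mul_cancel_left]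
  have hAN : A ∈ normalizer (X : Set G) := mul_mem (le_normalizer hsX) hk
  have hAK : A ∉ K := fun h => hkK (by
    have h1 := K.mul_mem (K.inv_mem (hKX s hsX)) h
    rwa [inv_mul_cancel_left] at h1)
  -- an element of odd prime power order
  classical
  have hex : ∃ m : ℕ, 0 < m ∧ A ^ m ∈ K := ⟨orderOf A, orderOf_pos A, by rw [pow_orderOf_eq_one]; exact one_mem _⟩
  set m := Nat.find hex
  obtain ⟨hm0, hmK⟩ := Nat.find_spec hex
  have hm1 : m ≠ 1 := fun e => hAK (by rw [← pow_one A, ← e]; exact hmK)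
  obtain ⟨r, hr, hrm⟩ := Nat.exists_prime_and_dvd hm1
  haveI := Fact.mk hr
  have hA1K : A ^ (m / r) ∉ K := fun h => Nat.find_min hex (Nat.div_lt_self hm0 hr.one_lt)
    ⟨Nat.div_pos (Nat.le_of_dvd hm0 hrm) hr.pos, h⟩
  obtain ⟨c₁, c₂, hc, ⟨l, hl⟩, hcop⟩ := split r (A ^ (m / r))
  have hA2K : (A ^ (m / r)) ^ c₁ ∉ K := fun h => hA1K (by
    rw [hc]
    refine K.mul_mem h ?_
    obtain ⟨t, ht⟩ := exists_pow_eq_self_of_coprime (x := (A ^ (m / r)) ^ c₂) (n := r) hcop.symm
    rw [← ht]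
    refine pow_mem ?_ t
    rw [pow_right_comm _ c₂ r, ← pow_mul A, Nat.div_mul_cancel hrm]
    exact pow_mem hmK _)
  set C := (A ^ (m / r)) ^ c₁
  have hr2 : r ≠ 2 := fun e => hA2K (htwo C (pow_mem (pow_mem hAN _) _) l (by rwa [e] at hl))
  -- a fixed point on the coset of the 2-part
  let X2 : Subgroup G :=
    { carrier := {c | c ∈ X ∧ ∃ i : ℕ, c ^ 2 ^ i = 1}
      one_mem' := ⟨one_mem _, 0, one_pow _⟩
      mul_mem' := by
        rintro c d ⟨hc, i, hi⟩ ⟨hd, j, hj⟩
        exact ⟨X.mul_mem hc hd, i + j, by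
          rw [(habX c hc d hd).mul_pow, pow_add, pow_mul, hi, one_pow, mul_comm, pow_mul, hj, one_pow, one_mul]⟩
      inv_mem' := by
        rintro c ⟨hc, i, hi⟩
        exact ⟨X.inv_mem hc, i, by rw [inv_pow, hi, inv_one]⟩ }
  have hX2 : IsPGroup 2 X2 := fun c => by
    obtain ⟨i, hi⟩ := c.2.2
    exact ⟨i, Subtype.ext hi⟩
  let S : Type u := {v : G // g⁻¹ * v ∈ X2}
  have hmap : ∀ v : S, g⁻¹ * (A * (v : G) * A⁻¹) ∈ X2 := by
    intro v
    rw [show g⁻¹ * (A * (v : G) * A⁻¹) = (g⁻¹ * (A * g * A⁻¹)) * (A * (g⁻¹ * v) * A⁻¹) by group, hA]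
    refine X2.mul_mem ⟨pow_mem hxX _, i, hi⟩ ⟨(mem_normalizer_iff.1 hAN _).1 v.2.1, ?_⟩
    obtain ⟨j, hj⟩ := v.2.2
    exact ⟨j, by rw [conj_pow, hj, mul_one, mul_inv_cancel]⟩
  haveI : Finite S := Subtype.finite
  haveI := Fintype.ofFinite S
  let σ : Equiv.Perm S := Equiv.ofBijective (fun v => ⟨A * v * A⁻¹, hmap v⟩)
    (Finite.injective_iff_bijective.1 fun v w e => Subtype.ext
      (mul_left_cancel (mul_right_cancel (congrArg Subtype.val e))))
  have hσ : ∀ (j : ℕ) (v : S), ((σ ^ j) v : G) = A ^ j * v * (A ^ j)⁻¹ := by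
    intro j
    induction j with
    | zero => intro v; simp
    | succ j ih =>
      intro v
      rw [pow_succ, Equiv.Perm.mul_apply, ih, pow_succ A]
      show A ^ j * (A * (v : G) * A⁻¹) * (A ^ j)⁻¹ = _
      group
  have hcardS : ¬ r ∣ Fintype.card S := by
    rw [← Nat.card_eq_fintype_card, Nat.card_congr
      ({ toFun := fun v => (⟨g⁻¹ * (v : G), v.2⟩ : X2)
         invFun := fun c => ⟨g * (c : G), by rw [inv_mul_cancel_left]; exact c.2⟩
         left_inv := fun v => Subtype.ext (mul_inv_cancel_left g v.1)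
         right_inv := fun c => Subtype.ext (inv_mul_cancel_left g c.1) } : S ≃ X2)]
    obtain ⟨e, he⟩ := IsPGroup.iff_card.1 hX2
    rw [he]
    exact fun h => hr2 ((Nat.prime_dvd_prime_iff_eq hr Nat.prime_two).1 (hr.dvd_of_dvd_pow h))
  obtain ⟨⟨v, hv⟩, hfix⟩ := Equiv.Perm.exists_fixed_point_of_prime (p := r) (n := l) hcardS
    (σ := σ ^ (m / r * c₁)) (by
      refine Equiv.ext fun v => Subtype.ext ?_
      rw [← pow_mul, hσ, Equiv.Perm.one_apply, show A ^ (m / r * c₁ * r ^ l) = C ^ r ^ l by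
        simp only [C]; rw [← pow_mul, ← pow_mul, mul_assoc], hl, one_mul, inv_one, mul_one])
  have hCv : Commute C v := by
    have h1 := congrArg Subtype.val hfix
    rw [hσ] at h1
    simp only [C, ← pow_mul]
    exact mul_inv_eq_iff_eq_mul.1 h1
  have hvX : v ∉ X := fun h => hgX (by
    have h1 := X.mul_mem h (X.inv_mem hv.1)
    rwa [mul_inv_rev, inv_inv, mul_inv_cancel_left] at h1)
  have hva : Commute v a := by
    have h1 := (hgI a B.ha B.ha2).mul_left (habX _ hv.1 a B.ha)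
    rwa [mul_inv_cancel_left] at h1
  have hC2 := hout v hvX hva C hCv
  refine hA2K ?_
  rw [eq_one_of_two_kinds (q := r) (i := l) hl]
  · exact one_mem _
  · exact ((Nat.coprime_primes Nat.prime_two hr).2 hr2.symm).coprime_dvd_left
      (orderOf_dvd_of_pow_eq_one (by rw [pow_two]; exact hC2))

theorem exists_central : ∃ z ∈ P.comp x, orderOf z = 2 ∧ ∀ c ∈ P.comp x, Commute c z := by
  haveI := B.nil
  haveI : Fact (Nat.Prime 2) := ⟨Nat.prime_two⟩
  obtain ⟨z, hz, hz1⟩ := (bot_or_exists_ne_one _).resolve_left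
    (omegaCenter_ne_bot (X := P.comp x) (q := 2) (by rw [← B.ha2]; exact Subgroup.orderOf_dvd_natCard _ B.ha))
  exact ⟨z, hz.1, orderOf_eq_prime hz.2.2 hz1, fun c hc => (hz.2.1 c hc).symm⟩

/-- The centraliser of each involution of the component lies in it. -/
theorem cent_le {w g : G} (hw : w ∈ P.comp x) (hw2 : orderOf w = 2) (hg : Commute g w) : g ∈ P.comp x := by
  by_contra hgX
  obtain ⟨z, hz, hz2, hzc⟩ := B.exists_central
  have h1 := B.inverts hw hw2 hgX hg hz (hzc w hw).symm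
  rw [inv_self hz2] at h1
  exact hgX (B.cent_central hz hz2 hzc (mul_inv_eq_iff_eq_mul.1 h1))

/-- The 2-elements of the normaliser lie in the component. -/
theorem two_mem {g : G} {i : ℕ} (hg : g ∈ normalizer (P.comp x : Set G)) (hgi : g ^ 2 ^ i = 1) :
    g ∈ P.comp x := by
  haveI := B.nil
  haveI : Fact (Nat.Prime 2) := ⟨Nat.prime_two⟩
  set X := P.comp x
  have hn : g ∈ normalizer (omegaCenter X 2 : Set G) := mem_normalizer_of_le fun v hv =>
    ⟨(mem_normalizer_iff.1 hg v).1 hv.1, fun c hc => by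
      have hc' : g⁻¹ * c * g ∈ X := by simpa using (mem_normalizer_iff.1 (inv_mem hg) c).1 hc
      show g * v * g⁻¹ * c = c * (g * v * g⁻¹)
      calc g * v * g⁻¹ * c = g * (v * (g⁻¹ * c * g)) * g⁻¹ := by group
        _ = g * ((g⁻¹ * c * g) * v) * g⁻¹ := by rw [(hv.2.1 _ hc').eq]
        _ = c * (g * v * g⁻¹) := by group,
      by rw [conj_pow, hv.2.2, mul_one, mul_inv_cancel]⟩
  obtain ⟨w, hw, hw1, hwc⟩ := exists_fixed (omegaCenter X 2)
    (fun v => ⟨1, Subtype.ext (by rw [pow_one]; exact v.2.2.2)⟩)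
    (omegaCenter_ne_bot (by rw [← B.ha2]; exact Subgroup.orderOf_dvd_natCard _ B.ha)) hn hgi
  exact B.cent_le hw.1 (orderOf_eq_prime hw.2.2 hw1) hwc

theorem inv_mem_X {v : G} (hv : orderOf v = 2) (hvN : v ∈ normalizer (P.comp x : Set G)) : v ∈ P.comp x :=
  B.two_mem (i := 1) hvN (by rw [pow_one, ← hv, pow_orderOf_eq_one])

theorem ti_inv {v g : G} (hv : orderOf v = 2) (hvN : v ∈ normalizer (P.comp x : Set G))
    (hg : g * v * g⁻¹ ∈ normalizer (P.comp x : Set G)) : g ∈ normalizer (P.comp x : Set G) :=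
  P.norm_of_mem B.x_ne (B.inv_mem_X hv hvN) (ne_one_inv hv) (B.inv_mem_X (by rw [ord_conj, hv]) hg)

theorem proper : normalizer (P.comp x : Set G) ≠ ⊤ := by
  intro e
  haveI : (P.comp x).Normal := Subgroup.normalizer_eq_top_iff.1 e
  haveI := B.nil
  exact P.comp_ne_bot B.x_ne (B.hss _ inferInstance inferInstance)

theorem strong : Cfsg.IsStronglyEmbedded (normalizer (P.comp x : Set G)) := by
  refine ⟨B.proper, even_iff_two_dvd.2 ?_, fun g hg => ?_⟩
  · rw [← B.ha2]
    exact Subgroup.orderOf_dvd_natCard _ (le_normalizer B.ha)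
  · rw [← Nat.not_even_iff_odd]
    intro he
    obtain ⟨v, hv, hv2⟩ := Cfsg.Lib.StrongEmb.exists_involution_of_even he
    obtain ⟨hvN, w, hw, rfl⟩ := Subgroup.mem_inf.1 hv
    refine hg (B.ti_inv (v := w) ?_ hw hvN)
    rwa [MulEquiv.coe_toMonoidHom, MulEquiv.orderOf_eq] at hv2

theorem one_class {v w : G} (hv : orderOf v = 2) (hw : orderOf w = 2) : IsConj v w :=
  Cfsg.Lib.StrongEmb.all_conj B.strong hv hw

theorem central {w : G} (hw : w ∈ P.comp x) (hw2 : orderOf w = 2) : ∀ c ∈ P.comp x, Commute c w := by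
  intro c hc
  obtain ⟨z, hz, hz2, hzc⟩ := B.exists_central
  obtain ⟨h, hh⟩ := isConj_iff.1 (B.one_class hz2 hw2)
  have hn : h ∈ normalizer (P.comp x : Set G) :=
    B.ti_inv hz2 (le_normalizer hz) (hh.symm ▸ le_normalizer hw)
  have h1 := hzc (h⁻¹ * c * h) (by simpa using (mem_normalizer_iff.1 (inv_mem hn) c).1 hc)
  rw [← hh]
  have h2 := h1.map (MulAut.conj h).toMonoidHom
  simpa [mul_assoc] using h2

theorem cent_inv {w : G} (hw : w ∈ P.comp x) (hw2 : orderOf w = 2) : centralizer ({w} : Set G) = P.comp x :=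
  le_antisymm (fun _ hg => B.cent_le hw hw2 (mem_centralizer_singleton_iff.1 hg))
    (fun c hc => mem_centralizer_singleton_iff.2 (B.central hw hw2 c hc).eq)

/-- Any involution is central in its component and has centraliser there. -/
theorem any_inv {u : G} (hu : orderOf u = 2) :
    (∀ c : G, Commute c u → c ∈ P.comp u) ∧ ∀ c ∈ P.comp u, orderOf c = 2 → Commute c u := by
  obtain ⟨h, hh⟩ := isConj_iff.1 (B.one_class B.ha2 hu)
  have hcomp : P.comp u = (P.comp x).map (MulAut.conj h).toMonoidHom := by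
    rw [← hh, P.conj, B.comp_eq B.ha (ne_one_inv B.ha2)]
  constructor
  · intro c hc
    rw [hcomp]
    refine ⟨h⁻¹ * c * h, B.cent_le B.ha B.ha2 ?_, by simp [mul_assoc]⟩
    show h⁻¹ * c * h * a = a * (h⁻¹ * c * h)
    calc h⁻¹ * c * h * a = h⁻¹ * (c * (h * a * h⁻¹)) * h := by group
      _ = h⁻¹ * ((h * a * h⁻¹) * c) * h := by rw [hh, hc.eq]
      _ = a * (h⁻¹ * c * h) := by group
  · intro c hc hc2
    rw [hcomp] at hc
    obtain ⟨d, hd, rfl⟩ := hc
    have h1 := ((B.central B.ha B.ha2) d hd).map (MulAut.conj h).toMonoidHom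
    rw [← hh]
    exact h1

/-- An element whose conjugate by an involution it commutes with... : commuting with the component of `u`. -/
theorem commutator_eq {u k : G} (hu : orderOf u = 2) (hk : k ∈ normalizer (P.comp u : Set G)) :
    (k * u * k⁻¹ * u) ^ 2 = 1 := by
  have h1 : k * u * k⁻¹ ∈ P.comp u := (mem_normalizer_iff.1 hk u).1 (P.mem u)
  have h2 := (B.any_inv hu).2 _ h1 (by rw [ord_conj, hu])
  have h3 : orderOf (k * u * k⁻¹) = 2 := by rw [ord_conj, hu]
  rw [h2.mul_pow, pow_two, pow_two, sq_one h3, sq_one hu, one_mul]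

theorem meet_odd {u : G} (hu : u ∉ normalizer (P.comp x : Set G)) :
    Odd (Nat.card ↥(meet (normalizer (P.comp x : Set G)) u)) := B.strong.2.2 u hu

/-- The intersections meet the component trivially. -/
theorem meet_X {u d : G} (hu2 : orderOf u = 2) (hu : u ∉ normalizer (P.comp x : Set G))
    (hd : d ∈ meet (normalizer (P.comp x : Set G)) u) (hdX : d ∈ P.comp x) : d = 1 := by
  by_contra hd1
  set X := P.comp x
  have hodd : Odd (orderOf d) := (B.meet_odd hu).of_dvd_nat (Subgroup.orderOf_dvd_natCard _ hd)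
  obtain ⟨hdN, hduN⟩ := mem_meet.1 hd
  set v := u⁻¹ * d * u
  have hvo : orderOf v = orderOf d := by
    rw [show v = u⁻¹ * d * u⁻¹⁻¹ by rw [inv_inv], ord_conj]
  have hvX' : u * v * u⁻¹ ∈ X := by simpa [v, mul_assoc] using hdX
  have hvd : v ≠ d := fun e => hu (inv_mem_iff.1 (P.norm_of_mem B.x_ne hdX hd1
    (show u⁻¹ * d * u⁻¹⁻¹ ∈ X by rw [inv_inv]; show v ∈ X; rw [e]; exact hdX)))
  -- they commute
  have hc : Commute d v := by
    by_contra hc
    have h1 : d * v * d⁻¹ * v⁻¹ ∈ X := by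
      rw [show d * v * d⁻¹ * v⁻¹ = d * (v * d⁻¹ * v⁻¹) by group]
      exact X.mul_mem hdX ((mem_normalizer_iff.1 hduN _).1 (X.inv_mem hdX))
    have h2 : u * (d * v * d⁻¹ * v⁻¹) * u⁻¹ ∈ X := by
      have hdu : u * d * u⁻¹ ∈ normalizer (X : Set G) := by
        rw [inv_self hu2]
        have := hduN
        simp only [v, inv_self hu2] at this
        exact this
      rw [show u * (d * v * d⁻¹ * v⁻¹) * u⁻¹ =
        (u * d * u⁻¹) * (u * v * u⁻¹) * (u * d * u⁻¹)⁻¹ * (u * v * u⁻¹)⁻¹ by group]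
      exact X.mul_mem ((mem_normalizer_iff.1 hdu _).1 hvX') (X.inv_mem hvX')
    by_cases hcc : d * v * d⁻¹ * v⁻¹ = 1
    · exact hc (mul_inv_eq_iff_eq_mul.1 (mul_inv_eq_one.1 hcc))
    · exact hu (P.norm_of_mem B.x_ne h1 hcc h2)
  -- the product commutes with `u`
  set e := d * v
  have hvu : u * v * u = d := by
    simp only [v, inv_self hu2]
    rw [show u * (u * d * u) * u = (u * u) * d * (u * u) by group, sq_one hu2, one_mul, mul_one]
  have hdu : u * d * u = v := by simp only [v, inv_self hu2]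
  have heu : Commute e u := by
    show d * v * u = u * (d * v)
    calc d * v * u = (u * u) * (v * d) * u := by rw [sq_one hu2, one_mul, hc.eq]
      _ = u * ((u * v * u) * (u⁻¹ * d * u)) := by group
      _ = u * (d * v) := by rw [hvu]
  have he1 : e ≠ 1 := fun he => hu (inv_mem_iff.1 (P.norm_of_mem B.x_ne hdX hd1
    (show u⁻¹ * d * u⁻¹⁻¹ ∈ X by
      rw [inv_inv, show u⁻¹ * d * u = d⁻¹ from eq_inv_of_mul_eq_one_right he]
      exact X.inv_mem hdX)))
  have heU : e ∈ P.comp u := (B.any_inv hu2).1 e heu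
  have hdn : d ∈ normalizer (P.comp u : Set G) :=
    P.norm_of_commute (ne_one_inv hu2) heU he1 ((Commute.refl d).mul_right hc)
  have h2 := B.commutator_eq hu2 hdn
  have h3 : d * u * d⁻¹ * u = d * v⁻¹ := by
    rw [show d * u * d⁻¹ * u = d * (u * d * u⁻¹)⁻¹ * u * u by group, inv_self hu2, hdu, mul_assoc _ u u,
      sq_one hu2, mul_one]
  rw [h3] at h2
  have h4 : d * v⁻¹ = 1 := by
    refine eq_one_of_two_kinds (q := 2) (i := 1) (by rwa [pow_one]) ?_
    refine Nat.Coprime.coprime_dvd_left ((hc.inv_right).orderOf_mul_dvd_lcm.trans (Nat.lcm_dvd_mul _ _)) ?_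
    rw [orderOf_inv, hvo]
    exact (Nat.coprime_two_right.2 hodd).mul_left (Nat.coprime_two_right.2 hodd)
  exact hvd (mul_inv_eq_one.1 h4).symm

/-- Nothing nontrivial in the component commutes with an element inverted by an outer involution. -/
theorem fixed_trivial_inv {u k c : G} (hu2 : orderOf u = 2) (hu : u ∉ normalizer (P.comp x : Set G))
    (hk : Odd (orderOf k)) (hk1 : k ≠ 1) (hinv : u * k * u⁻¹ = k⁻¹) (hc : c ∈ P.comp x) (hck : Commute k c) :
    c = 1 := by
  by_contra hc1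
  set C := centralizer ({k} : Set G)
  have hCu : ∀ d ∈ C, u * d * u⁻¹ ∈ C := by
    intro d hd
    rw [mem_centralizer_singleton_iff] at hd ⊢
    have h1 : Commute d k⁻¹ := (show Commute d k from hd).inv_right
    have h2 := h1.map (MulAut.conj u).toMonoidHom
    have h3 : (MulAut.conj u).toMonoidHom k⁻¹ = k := by
      show u * k⁻¹ * u⁻¹ = k
      rw [← inv_inj, ← conj_inv, inv_inv, hinv]
    rw [h3] at h2
    exact h2.eq
  let φ : C → C := fun d => ⟨u * d * u⁻¹, hCu d d.2⟩
  let φh : C →* C :=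
    { toFun := φ
      map_one' := Subtype.ext (by simp [φ])
      map_mul' := fun d e => Subtype.ext (by simp [φ, mul_assoc]) }
  have hfix : MonoidHom.FixedPointFree φh := by
    intro d hd
    have hdu : Commute (d : G) u := (mul_inv_eq_iff_eq_mul.1 (congrArg Subtype.val hd)).symm
    by_contra hd1
    have hd1' : (d : G) ≠ 1 := fun e => hd1 (Subtype.ext e)
    have hdk : Commute k d := (mem_centralizer_singleton_iff.1 d.2).symm
    have hkn := P.norm_of_commute (ne_one_inv hu2) ((B.any_inv hu2).1 d hdu) hd1' hdk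
    have h2 := B.commutator_eq hu2 hkn
    have h3 : k * u * k⁻¹ * u = k * k := by
      rw [show k * u * k⁻¹ * u = k * (u * k * u⁻¹)⁻¹ * (u * u) by group, hinv, sq_one hu2, mul_one, inv_inv]
    rw [h3, ← pow_two, ← pow_mul] at h2
    have h4 : orderOf k ∣ 4 := orderOf_dvd_of_pow_eq_one h2
    exact hk1 (orderOf_eq_one_iff.1 ((Nat.Coprime.pow_right 2 (Nat.coprime_two_right.2 hk)).eq_one_of_dvd h4))
  have hinvol : Function.Involutive φh := fun d => Subtype.ext (by
    show u * (u * (d : G) * u⁻¹) * u⁻¹ = d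
    rw [show u * (u * (d : G) * u⁻¹) * u⁻¹ = (u * u) * d * (u * u)⁻¹ by group, sq_one hu2]
    group)
  have h1 := congrFun (MonoidHom.FixedPointFree.coe_eq_inv_of_involutive hfix hinvol)
    ⟨c, mem_centralizer_singleton_iff.2 hck.symm.eq⟩
  have h2 : u * c * u⁻¹ = c⁻¹ := congrArg Subtype.val h1
  exact hu (P.norm_of_mem B.x_ne hc hc1 (h2 ▸ (P.comp x).inv_mem hc))

/-- Each coset outside holds an involution inverting a complement. -/
theorem exists_inverter (g : G) (hg : g ∉ normalizer (P.comp x : Set G)) :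
    ∃ u, orderOf u = 2 ∧ u⁻¹ * g ∈ normalizer (P.comp x : Set G) ∧ u ∉ normalizer (P.comp x : Set G) ∧
      Nat.card ↥(meet (normalizer (P.comp x : Set G)) u) = (P.comp x).relIndex (normalizer (P.comp x : Set G)) ∧
      ∀ d ∈ meet (normalizer (P.comp x : Set G)) u, u * d * u⁻¹ = d⁻¹ := by
  classical
  set H := P.comp x
  set M := normalizer (H : Set G)
  set q := H.relIndex M with hq
  obtain ⟨z, hzH, hz, -⟩ := B.exists_central
  have hzM : z ∈ M := le_normalizer hzH
  have hC : centralizer ({z} : Set G) = H := B.cent_inv hzH hz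
  have hI : Nat.card {v : G // orderOf v = 2} = H.index := by
    have hf : ∀ a b : G, a⁻¹ * b ∈ H → a * z * a⁻¹ = b * z * b⁻¹ := fun a b hab => by
      rw [← hC] at hab
      have e := mem_centralizer_singleton_iff.1 hab
      rw [show b * z * b⁻¹ = a * ((a⁻¹ * b) * z) * b⁻¹ by group, e]
      group
    let f : G ⧸ H → {v : G // orderOf v = 2} := Quotient.lift
      (fun a => ⟨a * z * a⁻¹, by rw [← MulAut.conj_apply, MulEquiv.orderOf_eq, hz]⟩)
      (fun a b hab => Subtype.ext (hf a b (QuotientGroup.leftRel_apply.1 hab)))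
    refine (Nat.card_congr (Equiv.ofBijective f ⟨?_, ?_⟩)).symm
    · intro a b
      induction a using Quotient.inductionOn with | _ a => ?_
      induction b using Quotient.inductionOn with | _ b => ?_
      intro e
      have e' : a * z * a⁻¹ = b * z * b⁻¹ := congrArg Subtype.val e
      refine QuotientGroup.eq.2 (hC ▸ mem_centralizer_singleton_iff.2 ?_)
      rw [show a⁻¹ * b * z = a⁻¹ * (b * z * b⁻¹) * b by group, ← e']
      group
    · rintro ⟨v, hv⟩
      obtain ⟨c, hc⟩ := isConj_iff.1 (B.one_class hz hv)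
      exact ⟨QuotientGroup.mk c, Subtype.ext hc⟩
  have hS : H.index = M.index * q := by
    rw [← relIndex_mul_index (le_normalizer : H ≤ M), mul_comm]
  have hqpos : 0 < q := Nat.pos_of_ne_zero Subgroup.index_ne_zero_of_finite
  have hD : ∀ u : G, orderOf u = 2 → u ∉ M → Nat.card ↥(meet M u) ≤ q := by
    intro u hu2 hu
    have hle : meet M u ≤ M := inf_le_left
    refine le_trans (Nat.card_le_card_of_injective (fun d : meet M u =>
      (QuotientGroup.mk (⟨d, hle d.2⟩ : ↥M) : ↥M ⧸ H.subgroupOf M)) fun d d' e => ?_) (le_of_eq rfl)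
    have h1 : ((d⁻¹ * d' : meet M u) : G) ∈ H := (QuotientGroup.eq.1 e : _)
    exact inv_mul_eq_one.1 (Subtype.ext (B.meet_X hu2 hu (d⁻¹ * d' : meet M u).2 h1))
  have hmem : ∀ {u v : G}, orderOf u = 2 → orderOf v = 2 → u⁻¹ * v ∈ M → u * v ∈ meet M u := by
    intro u v hu hv huv
    rw [inv_self hu] at huv
    refine mem_meet.2 ⟨huv, ?_⟩
    have := inv_mem huv
    rw [mul_inv_rev, inv_self hv, inv_self hu] at this
    rwa [inv_self hu, ← mul_assoc, sq_one hu, one_mul]
  have hle : ∀ g : G, Nat.card (CosetInv M g) ≤ q := by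
    intro g
    rcases isEmpty_or_nonempty (CosetInv M g) with he | ⟨⟨u, hu, hug⟩⟩
    · rw [Nat.card_eq_zero.2 (Or.inl he)]; exact Nat.zero_le q
    by_cases huM : u ∈ M
    · let f : CosetInv M g → ↥M ⧸ H.subgroupOf M → Prop := fun v c => ∃ m : ↥M, (m : ↥M ⧸ H.subgroupOf M) = c ∧
        (v : G) = m * z * (m : G)⁻¹
      have hex : ∀ v : CosetInv M g, ∃ c, f v c := fun v => by
        have hvM : (v : G) ∈ M := by
          have := M.mul_mem (M.mul_mem huM hug) (inv_mem v.2.2)
          simpa [mul_assoc] using this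
        obtain ⟨c, hc⟩ := isConj_iff.1 (B.one_class hz v.2.1)
        have hcM : c ∈ M := B.ti_inv hz hzM (hc.symm ▸ hvM)
        exact ⟨_, ⟨c, hcM⟩, rfl, hc.symm⟩
      choose φ hφ using hex
      refine (Nat.card_le_card_of_injective φ fun v w e => ?_).trans (le_of_eq rfl)
      obtain ⟨m, hm, hv⟩ := hφ v
      obtain ⟨m', hm', hw⟩ := hφ w
      refine Subtype.ext ?_
      have h1 : (m⁻¹ * m' : ↥M) ∈ H.subgroupOf M := QuotientGroup.eq.1 (hm.trans (e.trans hm'.symm))
      have h2 : (m : G)⁻¹ * m' ∈ centralizer ({z} : Set G) := hC.ge h1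
      rw [hv, hw, show (m' : G) * z * (m' : G)⁻¹ = m * (((m : G)⁻¹ * m') * z) * (m' : G)⁻¹ by group,
        mem_centralizer_singleton_iff.1 h2]
      group
    · refine le_trans (Nat.card_le_card_of_injective
        (fun v : CosetInv M g => (⟨u * v, hmem hu v.2.1 ?_⟩ : ↥(meet M u))) fun v w e => ?_)
        (hD u hu huM)
      · simpa [mul_assoc] using M.mul_mem hug (inv_mem v.2.2)
      · exact Subtype.ext (mul_left_cancel (congrArg Subtype.val e))
  have hsum : ∀ c : G ⧸ M, Nat.card (CosetInv M c.out) = q := by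
    haveI := Fintype.ofFinite (G ⧸ M)
    have e : Nat.card {v : G // orderOf v = 2} = ∑ c : G ⧸ M, Nat.card (CosetInv M c.out) := by
      rw [← Nat.card_sigma]
      refine Nat.card_congr
        { toFun := fun v => ⟨QuotientGroup.mk v.1, v.1, v.2, QuotientGroup.eq.1 (QuotientGroup.out_eq' _).symm⟩
          invFun := fun p => ⟨p.2.1, p.2.2.1⟩
          left_inv := fun v => rfl
          right_inv := ?_ }
      rintro ⟨c, v, hv, hvc⟩
      obtain rfl : QuotientGroup.mk v = c := (QuotientGroup.eq.2 hvc).trans (QuotientGroup.out_eq' c)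
      rfl
    intro c
    by_contra hc
    have hlt : ∑ c : G ⧸ M, Nat.card (CosetInv M c.out) < ∑ _c : G ⧸ M, q :=
      Finset.sum_lt_sum (fun c _ => hle _) ⟨c, Finset.mem_univ c, lt_of_le_of_ne (hle _) hc⟩
    rw [← e, hI, hS, Finset.sum_const, Finset.card_univ, smul_eq_mul, ← Nat.card_eq_fintype_card] at hlt
    exact hlt.ne rfl
  set g₀ := (QuotientGroup.mk g : G ⧸ M).out
  have hg₀ : g₀⁻¹ * g ∈ M := QuotientGroup.eq.1 (QuotientGroup.out_eq' _)
  have hcg : Nat.card (CosetInv M g₀) = q := hsum _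
  obtain ⟨⟨u, hu, hug⟩⟩ : Nonempty (CosetInv M g₀) := (Nat.card_pos_iff.1 (hcg.symm ▸ hqpos)).1
  have hug' : u⁻¹ * g ∈ M := by simpa [mul_assoc] using M.mul_mem hug hg₀
  have huM : u ∉ M := fun k => hg (by simpa using M.mul_mem k hug')
  let f : CosetInv M g₀ → ↥(meet M u) := fun v => ⟨u * v, hmem hu v.2.1 (by
    simpa [mul_assoc] using M.mul_mem hug (inv_mem v.2.2))⟩
  have hf : Function.Injective f := fun v w e => Subtype.ext (mul_left_cancel (congrArg Subtype.val e))
  have hcardD : Nat.card ↥(meet M u) = q := le_antisymm (hD u hu huM) (hcg ▸ Nat.card_le_card_of_injective f hf)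
  refine ⟨u, hu, hug', huM, hcardD, fun d hd => ?_⟩
  obtain ⟨v, hv⟩ := (hf.bijective_of_nat_card_le (by rw [hcardD, hcg])).2 ⟨d, hd⟩
  have e : d = u * v := (congrArg Subtype.val hv).symm
  rw [e, mul_inv_rev, inv_self hu, inv_self v.2.1, ← mul_assoc u u, sq_one hu, one_mul]

/-- The normaliser is a Frobenius group over the component and the whole group is simple. -/
theorem frame : IsSimpleGroup G ∧ ¬ IsMulCommutative G ∧
    (∀ y ∈ P.comp x, y ≠ 1 → centralizer ({y} : Set G) ≤ P.comp x) ∧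
    (Nat.card ↥(P.comp x)).Coprime (P.comp x).index := by
  classical
  set X := P.comp x
  set N := normalizer (X : Set G)
  obtain ⟨g₀, -, hg₀⟩ : ∃ g : G, g ∈ (⊤ : Subgroup G) ∧ g ∉ N :=
    SetLike.exists_of_lt (lt_top_iff_ne_top.2 B.proper)
  obtain ⟨u, hu2, -, huN, hcardD, hinv⟩ := B.exists_inverter g₀ hg₀
  set D := meet N u
  have hDodd : ∀ d ∈ D, Odd (orderOf d) := fun d hd =>
    (B.meet_odd huN).of_dvd_nat (Subgroup.orderOf_dvd_natCard D hd)
  have hfix : ∀ d ∈ D, d ≠ 1 → ∀ c ∈ X, Commute d c → c = 1 := fun d hd hd1 c hc hdc =>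
    B.fixed_trivial_inv hu2 huN (hDodd d hd) hd1 (hinv d hd) hc hdc
  -- a complement
  have hdec : ∀ n ∈ N, ∃ d ∈ D, d⁻¹ * n ∈ X := by
    intro n hn
    let f : D → ↥N ⧸ X.subgroupOf N := fun d => QuotientGroup.mk ⟨d, inf_le_left (a := N) d.2⟩
    have hf : Function.Injective f := fun d d' e =>
      inv_mul_eq_one.1 (Subtype.ext (B.meet_X hu2 huN (d⁻¹ * d' : D).2 (QuotientGroup.eq.1 e : _)))
    obtain ⟨d, hd⟩ := (hf.bijective_of_nat_card_le (by rw [hcardD]; exact le_of_eq rfl)).2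
      (QuotientGroup.mk ⟨n, hn⟩)
    exact ⟨d, d.2, (QuotientGroup.eq.1 hd : _)⟩
  have hconj : ∀ n ∈ N, n ∉ X → ∃ d ∈ D, d ≠ 1 ∧ ∃ c ∈ X, c * d * c⁻¹ = n := by
    intro n hn hnX
    obtain ⟨d, hd, hdn⟩ := hdec n hn
    have hd1 : d ≠ 1 := fun e => hnX (by simpa [e] using hdn)
    have hdN : d ∈ N := (mem_meet.1 hd).1
    let f : X → X := fun c => ⟨d⁻¹ * ((c : G) * d * (c : G)⁻¹), by
      rw [show d⁻¹ * ((c : G) * d * (c : G)⁻¹) = d⁻¹ * c * d⁻¹⁻¹ * (c : G)⁻¹ by group]
      exact X.mul_mem ((mem_normalizer_iff.1 (inv_mem hdN) _).1 c.2) (X.inv_mem c.2)⟩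
    have hf : Function.Injective f := fun c c' e => by
      have e' : (c : G) * d * (c : G)⁻¹ = c' * d * (c' : G)⁻¹ := mul_left_cancel (congrArg Subtype.val e)
      have h1 : Commute d ((c' : G)⁻¹ * c) := by
        show d * ((c' : G)⁻¹ * c) = (c' : G)⁻¹ * c * d
        calc d * ((c' : G)⁻¹ * c) = (c' : G)⁻¹ * (c' * d * (c' : G)⁻¹) * c := by group
          _ = (c' : G)⁻¹ * (c * d * (c : G)⁻¹) * c := by rw [e']
          _ = (c' : G)⁻¹ * c * d := by group
      exact Subtype.ext (inv_mul_eq_one.1 (hfix d hd hd1 _ (X.mul_mem (X.inv_mem c'.2) c.2) h1)).symm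
    obtain ⟨c, hc⟩ := (Finite.injective_iff_surjective.1 hf) ⟨_, hdn⟩
    exact ⟨d, hd, hd1, c, c.2, mul_left_cancel (congrArg Subtype.val hc)⟩
  have hfpf : ∀ n ∈ N, n ∉ X → ∀ y ∈ X, Commute n y → y = 1 := by
    intro n hn hnX y hy hny
    obtain ⟨d, hd, hd1, c, hc, rfl⟩ := hconj n hn hnX
    have hmem : c⁻¹ * y * c ∈ X := X.mul_mem (X.mul_mem (X.inv_mem hc) hy) hc
    have h1 := hfix d hd hd1 _ hmem (by
      have h2 := hny.map (MulAut.conj c⁻¹).toMonoidHom
      simpa [mul_assoc] using h2)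
    calc y = c * (c⁻¹ * y * c) * c⁻¹ := by group
      _ = 1 := by rw [h1, mul_one, mul_inv_cancel]
  have hcentX : ∀ y ∈ X, y ≠ 1 → centralizer ({y} : Set G) ≤ X := fun y hy hy1 g hg => by
    by_contra hgX
    have hc : Commute g y := mem_centralizer_singleton_iff.1 hg
    exact hy1 (hfpf g (P.norm_of_commute B.x_ne hy hy1 hc) hgX y hy hc)
  -- a Hall subgroup
  have hhall : (Nat.card ↥X).Coprime X.index := by
    refine Nat.coprime_of_dvd fun q hq h1 h2 => ?_
    haveI := Fact.mk hq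
    obtain ⟨y, hy⟩ := exists_prime_orderOf_dvd_card' (G := X) q h1
    rw [← orderOf_coe] at hy
    obtain ⟨Q, hQ⟩ := (IsPGroup.of_card (p := q) (n := 1) (G := zpowers (y : G))
      (by rw [Nat.card_zpowers, hy, pow_one])).exists_le_sylow
    by_cases hQX : (Q : Subgroup G) ≤ X
    · exact Q.not_dvd_index (h2.trans (index_dvd_of_le hQX))
    haveI : Group.IsNilpotent ↥(Q : Subgroup G) := Q.isPGroup'.isNilpotent
    have hy1 : (y : G) ≠ 1 := fun e => by rw [e, orderOf_one] at hy; exact hq.ne_one hy.symm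
    have hlt : X.subgroupOf (Q : Subgroup G) < ⊤ := lt_top_iff_ne_top.2 fun e => hQX fun v hv =>
      mem_subgroupOf.1 (e ▸ mem_top (⟨v, hv⟩ : (Q : Subgroup G)))
    obtain ⟨⟨n, hn⟩, hnn, hnX⟩ :=
      SetLike.exists_of_lt (Group.normalizerCondition_of_isNilpotent (G := ↥(Q : Subgroup G)) _ hlt)
    have hyQ : (y : G) ∈ (Q : Subgroup G) := hQ (mem_zpowers _)
    have hnN : n ∈ N := P.norm_of_mem B.x_ne y.2 hy1
      (mem_subgroupOf.1 ((mem_normalizer_iff.1 hnn ⟨(y : G), hyQ⟩).1 (mem_subgroupOf.2 y.2)))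
    have hnQ : ∃ i, n ^ q ^ i = 1 := by
      obtain ⟨i, hi⟩ := Q.isPGroup' ⟨n, hn⟩
      exact ⟨i, congrArg Subtype.val hi⟩
    obtain ⟨i, hi⟩ := hnQ
    set V : Subgroup G := X ⊓ (Q : Subgroup G)
    have hnV : n ∈ normalizer (V : Set G) := mem_normalizer_of_le fun v hv =>
      ⟨(mem_normalizer_iff.1 hnN v).1 hv.1, (Q : Subgroup G).mul_mem ((Q : Subgroup G).mul_mem hn hv.2)
        ((Q : Subgroup G).inv_mem hn)⟩
    obtain ⟨w, hw, hw1, hwc⟩ := exists_fixed V (Q.isPGroup'.to_le inf_le_right)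
      (fun e => hy1 (Subgroup.mem_bot.1 (e ▸ (⟨y.2, hyQ⟩ : (y : G) ∈ V)))) hnV hi
    exact hw1 (hfpf n hnN (fun h => hnX (mem_subgroupOf.2 h)) w hw.1 hwc)
  refine ⟨?_, ?_, hcentX, hhall⟩
  · haveI : Nontrivial G := ⟨⟨x, 1, B.x_ne⟩⟩
    refine ⟨fun L hL => ?_⟩
    by_cases hLb : L = ⊥
    · exact Or.inl hLb
    refine Or.inr ?_
    obtain ⟨w, hw, hw2⟩ : ∃ w ∈ L, orderOf w = 2 := Cfsg.Lib.StrongEmb.exists_involution_of_even
      (Nat.not_odd_iff_even.1 fun h => hLb (odd_normal_eq_bot B.hss L hL h))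
    have hinvL : ∀ v : G, orderOf v = 2 → v ∈ L := fun v hv => by
      obtain ⟨c, hc⟩ := isConj_iff.1 (B.one_class hw2 hv)
      exact hc ▸ hL.conj_mem w hw c
    have hDL : ∀ d ∈ D, d ∈ L := fun d hd => by
      have h1 : u * (d * u * d⁻¹) ∈ L := L.mul_mem (hinvL u hu2) (hinvL _ (by rw [ord_conj, hu2]))
      have h2 : u * (d * u * d⁻¹) = (d ^ 2)⁻¹ := by
        rw [show u * (d * u * d⁻¹) = (u * d * u) * d⁻¹ by group,
          show u * d * u = u * d * u⁻¹ by rw [inv_self hu2], hinv d hd, ← mul_inv_rev, pow_two]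
      obtain ⟨j, hj⟩ := exists_pow_eq_self_of_coprime (x := d) (n := 2) (Nat.coprime_two_left.2 (hDodd d hd))
      have h3 := L.inv_mem (h2 ▸ h1)
      rw [inv_inv] at h3
      exact hj ▸ pow_mem h3 j
    obtain ⟨n, hnN, hnX⟩ := SetLike.exists_of_lt (lt_of_le_of_ne (le_normalizer : X ≤ N) (Ne.symm B.ns))
    obtain ⟨d, hd, hd1, -⟩ := hconj n hnN hnX
    have hdN : d ∈ N := (mem_meet.1 hd).1
    let f : X → X := fun c => ⟨(c : G) * d * (c : G)⁻¹ * d⁻¹, by
      rw [show (c : G) * d * (c : G)⁻¹ * d⁻¹ = c * (d * (c : G)⁻¹ * d⁻¹) by group]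
      exact X.mul_mem c.2 ((mem_normalizer_iff.1 hdN _).1 (X.inv_mem c.2))⟩
    have hf : Function.Injective f := fun c c' e => by
      have e' : (c : G) * d * (c : G)⁻¹ = c' * d * (c' : G)⁻¹ := mul_right_cancel (congrArg Subtype.val e)
      have h1 : Commute d ((c' : G)⁻¹ * c) := by
        show d * ((c' : G)⁻¹ * c) = (c' : G)⁻¹ * c * d
        calc d * ((c' : G)⁻¹ * c) = (c' : G)⁻¹ * (c' * d * (c' : G)⁻¹) * c := by group
          _ = (c' : G)⁻¹ * (c * d * (c : G)⁻¹) * c := by rw [e']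
          _ = (c' : G)⁻¹ * c * d := by group
      exact Subtype.ext (inv_mul_eq_one.1 (hfix d hd hd1 _ (X.mul_mem (X.inv_mem c'.2) c.2) h1)).symm
    have hXL : X ≤ L := fun y hy => by
      obtain ⟨c, hc⟩ := (Finite.injective_iff_surjective.1 hf) ⟨y, hy⟩
      have e1 : (c : G) * d * (c : G)⁻¹ * d⁻¹ = y := congrArg Subtype.val hc
      rw [← e1]
      exact L.mul_mem (hL.conj_mem d (hDL d hd) c) (L.inv_mem (hDL d hd))
    have hNL : N ≤ L := fun n hn => by
      obtain ⟨d', hd', hdn⟩ := hdec n hn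
      have h1 := L.mul_mem (hDL d' hd') (hXL hdn)
      rwa [mul_inv_cancel_left] at h1
    refine eq_top_iff.2 fun g _ => ?_
    by_cases hg : g ∈ N
    · exact hNL hg
    obtain ⟨v, hv2, hvg, -⟩ := B.exists_inverter g hg
    have h1 := L.mul_mem (hinvL v hv2) (hNL hvg)
    rwa [mul_inv_cancel_left] at h1
  · intro hc
    have hbt : (⊤ : Subgroup G) = ⊥ := B.hss ⊤ inferInstance (Group.isSolvable_of_comm fun a b =>
      Subtype.ext (hc.is_comm.comm (a : G) b))
    exact B.x_ne (Subgroup.mem_bot.1 (hbt ▸ mem_top x))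

/-- The outcome. -/
theorem classify : (∃ (F : Type) (_ : Field F) (_ : Fintype F), 4 ≤ Fintype.card F ∧
    Nonempty (G ≃* Matrix.ProjectiveSpecialLinearGroup (Fin 2) F)) ∨ Cfsg.Lie.IsoSuzuki G := by
  obtain ⟨hs, hna, hcent, hhall⟩ := B.frame
  haveI := hs
  haveI : Fact (Nat.Prime 2) := ⟨Nat.prime_two⟩
  set X := P.comp x
  set N := normalizer (X : Set G)
  have h2X : 2 ∣ Nat.card ↥X := by
    rw [← B.ha2]
    exact Subgroup.orderOf_dvd_natCard X B.ha
  by_cases hp : IsPGroup 2 X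
  swap
  · exfalso
    have L : Cfsg.Lib.CITGroups.CNFrame N X :=
      { nil := B.nil
        notpp := fun hpp => hp (by
          obtain ⟨r, k, hr, -, hk⟩ := (isPrimePow_nat_iff _).1 hpp
          obtain rfl : 2 = r := (Nat.prime_dvd_prime_iff_eq Nat.prime_two hr).1
            (Nat.prime_two.dvd_of_dvd_pow (hk.symm ▸ h2X))
          exact IsPGroup.of_card hk.symm)
        proper := B.proper
        le := le_normalizer
        norm := fun m hm v hv => (mem_normalizer_iff.1 hm v).1 hv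
        ti := fun g y hy hy1 hg => P.norm_of_mem B.x_ne hy hy1 hg
        cent := hcent
        hall := hhall
        even := h2X }
    exact L.absurd_frame hna
  have hodd : ¬ 2 ∣ (X.subgroupOf N).index := fun h2 => by
    have h3 : X.relIndex N ∣ X.index := relIndex_dvd_index_of_le le_normalizer
    exact Nat.prime_two.ne_one (Nat.eq_one_of_dvd_coprimes hhall h2X (h2.trans h3))
  have L : Cfsg.Lib.CITGroups.Closed N X :=
    { two := hp
      ne := P.comp_ne_bot B.x_ne
      le := le_normalizer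
      norm := fun m hm v hv => (mem_normalizer_iff.1 hm v).1 hv
      proper := B.proper
      self := fun g hg => B.ti_inv B.ha2 (le_normalizer B.ha) (hg a (le_normalizer B.ha))
      ne_self := B.ns
      odd := hodd
      inv := fun v hv hvN => ⟨B.inv_mem_X hv hvN, fun s hs => (B.central (B.inv_mem_X hv hvN) hv s hs).symm⟩
      cent := fun v g hv hvN hgv => le_normalizer (B.cent_le (B.inv_mem_X hv hvN) hv hgv)
      se := fun g hg v hv hvN h => hg (inv_mem_iff.1 (B.ti_inv hv hvN (by rwa [inv_inv])))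
      one_class := fun v w hv hw => B.one_class hv hw }
  have hcit : Cfsg.Lib.CITGroups.CIT G := by
    intro t ht
    obtain ⟨h, hh⟩ := isConj_iff.1 (B.one_class B.ha2 ht)
    have hle : centralizer ({t} : Set G) ≤ P.comp t :=
      fun c hc => (B.any_inv ht).1 c (mem_centralizer_singleton_iff.1 hc)
    refine (IsPGroup.to_le ?_ hle)
    rw [← hh, P.conj, B.comp_eq B.ha (ne_one_inv B.ha2)]
    exact hp.map _
  refine (Cfsg.Lib.SuzukiUnique.zassenhaus_iso (L.zassenhaus hcit)).imp_left ?_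
  rintro ⟨F, i1, i2, ⟨e⟩⟩
  refine ⟨F, i1, i2, ?_, ⟨e⟩⟩
  by_contra hlt
  -- too small
  have h4 : 4 ∣ Nat.card ↥X := by
    obtain ⟨k, hk⟩ := IsPGroup.iff_card.1 hp
    have hx2 : orderOf x ∣ Nat.card ↥X := Subgroup.orderOf_dvd_natCard X (P.mem x)
    rw [hk] at hx2 ⊢
    have := Nat.le_of_dvd (by positivity) hx2
    have := B.big
    rcases k with _ | _ | k
    · omega
    · omega
    · exact ⟨2 ^ k, by ring⟩
  have h8 : 8 ∣ Nat.card ↥X := by
    by_contra h8
    obtain ⟨k, hk⟩ := IsPGroup.iff_card.1 hp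
    have hk2 : k = 2 := by
      rcases k with _ | _ | _ | k
      · rw [hk] at h4; norm_num at h4
      · rw [hk] at h4; norm_num at h4
      · rfl
      · exact absurd (hk ▸ ⟨2 ^ k, by ring⟩) h8
    subst hk2
    -- a group of order four with an element of order four has one involution
    have hxo : orderOf x = 4 := by
      obtain ⟨j, hj, hj'⟩ := (Nat.dvd_prime_pow Nat.prime_two).1
        (hk ▸ Subgroup.orderOf_dvd_natCard X (P.mem x) : orderOf x ∣ 2 ^ 2)
      have := B.big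
      interval_cases j <;> omega
    have heq : zpowers x = X := eq_of_le_of_card_ge (zpowers_le.2 (P.mem x)) (by rw [hk, Nat.card_zpowers, hxo]; norm_num)
    exact B.hab (Cfsg.Lib.CyclicNorm.invol_unique (show a ∈ zpowers x by rw [heq]; exact B.ha)
      (show b ∈ zpowers x by rw [heq]; exact B.hb) B.ha2 B.hb2)
  have hd : 8 ∣ Nat.card G := h8.trans X.card_subgroup_dvd_card
  rw [Nat.card_congr e.toEquiv] at hd
  have hc := Cfsg.Lib.Classical.SmallPSL.card_psl (F := F) rfl
  have h2 : 2 ≤ Fintype.card F := Fintype.one_lt_card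
  interval_cases hF : Fintype.card F <;> norm_num at hc <;> omega

end Big

end Cfsg.Lib.Partitions
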