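import Cfsg.Agent.SolvStruct.Hughes
import Cfsg.Agent.Coprime.SolvableBasics
import Cfsg.Agent.Coprime.Sylow
import Cfsg.Agent.S0001
import Cfsg.Prelude.Def_Solvable

/-!
Groups with a partition: invariant partitions, commuting elements in different components, normalisers of
components, nilpotency of the components which are not self-normalising.
-/

set_option autoImplicit false
set_option linter.unusedSectionVars false
set_option linter.style.haveILetI false

namespace Cfsg.Lib.Partitions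

open Subgroup
open scoped Pointwise

universe u

/-- An invariant partition, given by the component of each element. -/
structure Part (G : Type u) [Group G] where
  comp : G → Subgroup G
  mem : ∀ g : G, g ∈ comp g
  eq : ∀ g x : G, g ≠ 1 → x ∈ comp g → x ≠ 1 → comp x = comp g
  conj : ∀ h g : G, comp (h * g * h⁻¹) = (comp g).map (MulAut.conj h).toMonoidHom
  ne_top : ∀ g : G, g ≠ 1 → comp g ≠ ⊤

/-- A nontrivial partition gives an invariant one. -/
theorem exists_part {G : Type u} [Group G] (S : Set (Subgroup G)) (hS2 : ∃ H ∈ S, ∃ K ∈ S, H ≠ K)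
    (hS1 : ∀ H ∈ S, H ≠ ⊥) (hpart : ∀ g : G, g ≠ 1 → ∃! H : Subgroup G, H ∈ S ∧ g ∈ H) :
    Nonempty (Part G) := by
  classical
  let P : G → Subgroup G := fun g => if h : g = 1 then ⊤ else Classical.choose (hpart g h)
  have hP : ∀ g : G, g ≠ 1 → P g ∈ S ∧ g ∈ P g := fun g h => by
    simp only [P, dif_neg h]
    exact (Classical.choose_spec (hpart g h)).1
  have hPeq : ∀ g : G, g ≠ 1 → ∀ H ∈ S, g ∈ H → H = P g := fun g h H hH hg => by
    simp only [P, dif_neg h]
    exact (Classical.choose_spec (hpart g h)).2 H ⟨hH, hg⟩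
  have hPmem : ∀ g : G, g ∈ P g := fun g => by
    by_cases h : g = 1
    · rw [h]; exact one_mem _
    · exact (hP g h).2
  refine ⟨{ comp := fun g => ⨅ h : G, (P (h⁻¹ * g * h)).map (MulAut.conj h).toMonoidHom
            mem := ?_, eq := ?_, conj := ?_, ne_top := ?_ }⟩
  · exact fun g => mem_iInf.2 fun h => ⟨h⁻¹ * g * h, hPmem _, by simp [mul_assoc]⟩
  · intro g x hg hx hx1
    refine iInf_congr fun h => ?_
    obtain ⟨y, hy, hyx⟩ := mem_iInf.1 hx h
    have e : h⁻¹ * x * h = y := by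
      rw [← hyx]
      simp [mul_assoc]
    have hg' : h⁻¹ * g * h ≠ 1 := fun e1 => hg (by
      rw [show g = h * (h⁻¹ * g * h) * h⁻¹ by group, e1]
      group)
    have hx' : h⁻¹ * x * h ≠ 1 := fun e1 => hx1 (by
      rw [show x = h * (h⁻¹ * x * h) * h⁻¹ by group, e1]
      group)
    rw [hPeq _ hx' _ (hP _ hg').1 (e ▸ hy)]
  · intro h g
    refine le_antisymm ?_ ?_
    · intro x hx
      refine ⟨h⁻¹ * x * h, mem_iInf.2 fun k => ?_, by simp [mul_assoc]⟩
      obtain ⟨y, hy, hyx⟩ := mem_iInf.1 hx (h * k)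
      refine ⟨y, ?_, ?_⟩
      · rwa [show (h * k)⁻¹ * (h * g * h⁻¹) * (h * k) = k⁻¹ * g * k by group] at hy
      · rw [← hyx]
        simp [mul_assoc]
    · rintro _ ⟨x, hx, rfl⟩
      refine mem_iInf.2 fun k => ?_
      obtain ⟨y, hy, hyx⟩ := mem_iInf.1 hx (h⁻¹ * k)
      refine ⟨y, ?_, ?_⟩
      · rwa [show (h⁻¹ * k)⁻¹ * g * (h⁻¹ * k) = k⁻¹ * (h * g * h⁻¹) * k by group] at hy
      · rw [← hyx]
        simp [mul_assoc]
  · intro g hg htop
    obtain ⟨H, hH, K, hK, hne⟩ := hS2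
    have hall : ∀ x : G, x ∈ P g := fun x => by
      have hx : x ∈ ⨅ h : G, (P (h⁻¹ * g * h)).map (MulAut.conj h).toMonoidHom := htop ▸ mem_top x
      obtain ⟨y, hy, hyx⟩ := mem_iInf.1 hx 1
      simp only [inv_one, one_mul, mul_one] at hy
      rw [← hyx]
      simpa using hy
    have key : ∀ L ∈ S, L = P g := fun L hL => by
      obtain ⟨x, hxL, hx1⟩ := (bot_or_exists_ne_one L).resolve_left (hS1 L hL)
      exact (hPeq x hx1 L hL hxL).trans (hPeq x hx1 (P g) (hP g hg).1 (hall x)).symm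
    exact hne ((key H hH).trans (key K hK).symm)

/-- An element is a product of commuting powers, one of `q`-power order and one of order prime to `q`. -/
theorem split {G : Type u} [Group G] [Finite G] (q : ℕ) [Fact q.Prime] (g : G) :
    ∃ k l : ℕ, g = g ^ k * g ^ l ∧ (∃ i : ℕ, (g ^ k) ^ q ^ i = 1) ∧ (orderOf (g ^ l)).Coprime q := by
  obtain ⟨e, m, hm, hgm⟩ := Nat.exists_eq_pow_mul_and_not_dvd (orderOf_pos g).ne' q (Fact.out : q.Prime).ne_one
  have hmq : m.Coprime q := ((Fact.out : q.Prime).coprime_iff_not_dvd.2 hm).symm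
  obtain ⟨c, h1, h2⟩ := Nat.chineseRemainder (hmq.pow_right e).symm 1 0
  obtain ⟨d, h3, h4⟩ := Nat.chineseRemainder (hmq.pow_right e).symm 0 1
  refine ⟨c, d, ?_, ⟨e, ?_⟩, ?_⟩
  · rw [← pow_add]
    nth_rw 1 [← pow_one g]
    rw [pow_eq_pow_iff_modEq, hgm]
    refine ((Nat.modEq_and_modEq_iff_modEq_mul (hmq.pow_right e).symm).1 ⟨?_, ?_⟩).symm
    · simpa using h1.add h3
    · simpa using h2.add h4
  · rw [← pow_mul, ← orderOf_dvd_iff_pow_eq_one, hgm, mul_comm (q ^ e)]
    exact mul_dvd_mul (Nat.modEq_zero_iff_dvd.1 h2) dvd_rfl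
  · refine Nat.Coprime.coprime_dvd_left ?_ hmq
    rw [orderOf_dvd_iff_pow_eq_one, ← pow_mul, ← orderOf_dvd_iff_pow_eq_one, hgm]
    exact mul_dvd_mul (Nat.modEq_zero_iff_dvd.1 h3) dvd_rfl

/-- An element of `q`-power order and of order prime to `q` is trivial. -/
theorem eq_one_of_two_kinds {G : Type u} [Group G] {q i : ℕ} {g : G} (h1 : g ^ q ^ i = 1)
    (h2 : (orderOf g).Coprime q) : g = 1 :=
  orderOf_eq_one_iff.1 ((h2.pow_right i).eq_one_of_dvd (orderOf_dvd_of_pow_eq_one h1))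

/-- The decomposition into a `q`-part and a part of order prime to `q` is unique. -/
theorem split_unique {G : Type u} [Group G] {q i j : ℕ} {a a' r r' : G} (h : a * r = a' * r') (hca : Commute a a')
    (hcr : Commute r r') (ha : a ^ q ^ i = 1) (ha' : a' ^ q ^ j = 1) (hr : (orderOf r).Coprime q)
    (hr' : (orderOf r').Coprime q) : a = a' ∧ r = r' := by
  have hd : a'⁻¹ * a = r' * r⁻¹ :=
    calc a'⁻¹ * a = a'⁻¹ * (a * r) * r⁻¹ := by group
      _ = a'⁻¹ * (a' * r') * r⁻¹ := by rw [h]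
      _ = r' * r⁻¹ := by group
  have h0 : a'⁻¹ * a = 1 := by
    refine eq_one_of_two_kinds (q := q) (i := i + j) ?_ ?_
    · rw [(hca.symm.inv_left).mul_pow, pow_add, inv_pow, mul_comm (q ^ i), pow_mul, ha', one_pow,
        mul_comm (q ^ j), pow_mul, ha, one_pow, inv_one, mul_one]
    · rw [hd]
      refine Nat.Coprime.coprime_dvd_left ((hcr.symm.inv_right).orderOf_mul_dvd_lcm.trans
        (Nat.lcm_dvd_mul _ _)) ?_
      rw [orderOf_inv]
      exact hr'.mul_left hr
  exact ⟨(inv_mul_eq_one.1 h0).symm, (mul_inv_eq_one.1 (by rw [← hd, h0])).symm⟩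

/-- Conjugation preserves orders. -/
theorem ord_conj {G : Type u} [Group G] (h g : G) : orderOf (h * g * h⁻¹) = orderOf g :=
  MulEquiv.orderOf_eq (MulAut.conj h) g

/-- Conjugating a subgroup into itself gives an element of its normaliser. -/
theorem mem_normalizer_of_le {G : Type u} [Group G] [Finite G] {X : Subgroup G} {h : G}
    (hh : ∀ x ∈ X, h * x * h⁻¹ ∈ X) : h ∈ normalizer (X : Set G) := by
  have e : X.map (MulAut.conj h).toMonoidHom = X :=
    eq_of_le_of_card_ge (by rintro _ ⟨x, hx, rfl⟩; exact hh x hx)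
      (card_map_of_injective (MulAut.conj h).injective).ge
  refine mem_normalizer_iff.2 fun x => ⟨hh x, fun hx => ?_⟩
  rw [← e] at hx
  obtain ⟨y, hy, hyx⟩ := hx
  rwa [← (MulAut.conj h).injective hyx]

/-- A fixed-point-free normal subgroup is the kernel of a Frobenius group. -/
theorem exists_complement {G : Type u} [Group G] [Finite G] (K : Subgroup G) [K.Normal] (hb : K ≠ ⊥) (ht : K ≠ ⊤)
    (hfpf : ∀ g : G, g ∉ K → ∀ k ∈ K, Commute g k → k = 1) :
    ∃ H : Subgroup G, Cfsg.IsFrobeniusComplement H := by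
  have hcop : (Nat.card K).Coprime K.index := by
    refine Nat.coprime_of_dvd fun q hq h1 h2 => ?_
    haveI := Fact.mk hq
    obtain ⟨Q⟩ : Nonempty (Sylow q G) := inferInstance
    by_cases hQK : (Q : Subgroup G) ≤ K
    · exact Q.not_dvd_index (h2.trans (index_dvd_of_le hQK))
    obtain ⟨x, hxQ, hxK⟩ := SetLike.not_le_iff_exists.1 hQK
    haveI hQn : Group.IsNilpotent ↥(Q : Subgroup G) := Q.isPGroup'.isNilpotent
    have hne : (K.subgroupOf (Q : Subgroup G)) ≠ ⊥ := by
      intro e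
      obtain ⟨k, hk⟩ := exists_prime_orderOf_dvd_card' (G := K) q h1
      obtain ⟨R, hR⟩ : ∃ R : Sylow q G, zpowers (k : G) ≤ (R : Subgroup G) :=
        (IsPGroup.of_card (n := 1) (by rw [Nat.card_zpowers, orderOf_coe, hk, pow_one])).exists_le_sylow
      obtain ⟨g, hg⟩ := MulAction.exists_smul_eq G R Q
      have hmem : g * (k : G) * g⁻¹ ∈ (Q : Subgroup G) := by
        rw [← hg, Sylow.coe_subgroup_smul]
        exact ⟨k, hR (mem_zpowers _), rfl⟩
      have h3 : (⟨_, hmem⟩ : ↥(Q : Subgroup G)) ∈ K.subgroupOf (Q : Subgroup G) :=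
        mem_subgroupOf.2 ((inferInstance : K.Normal).conj_mem _ k.2 g)
      rw [e, Subgroup.mem_bot] at h3
      have h4 : g * (k : G) * g⁻¹ = 1 := congrArg Subtype.val h3
      rw [conj_eq_one_iff, OneMemClass.coe_eq_one] at h4
      rw [h4, orderOf_one] at hk
      exact hq.ne_one hk.symm
    have h3 := Cfsg.Lib.Coprime.inf_center_ne_bot (K.subgroupOf (Q : Subgroup G)) hne
    obtain ⟨z, ⟨hzK, hzc⟩, hz1⟩ := (bot_or_exists_ne_one _).resolve_left h3
    exact hz1 (Subtype.ext (hfpf x hxK z (mem_subgroupOf.1 hzK)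
      (congrArg Subtype.val (mem_center_iff.1 hzc ⟨x, hxQ⟩))))
  obtain ⟨H, hH⟩ := Subgroup.exists_right_complement'_of_coprime hcop
  refine ⟨H, fun e => ht ?_, fun e => hb ?_, fun g hg => ?_⟩
  · exact Subgroup.isComplement'_bot_right.1 (e ▸ hH)
  · exact Subgroup.isComplement'_top_right.1 (e ▸ hH)
  · rw [eq_bot_iff]
    rintro h ⟨hh, hh'⟩
    obtain ⟨h₀, hh₀, e⟩ := hh'
    change g * h₀ * g⁻¹ = h at e
    obtain ⟨⟨k, h₁⟩, ek⟩ := hH.2 g
    change (k : G) * (h₁ : G) = g at ek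
    rw [← ek, show (k : G) * h₁ * h₀ * ((k : G) * h₁)⁻¹ = k * (h₁ * h₀ * (h₁ : G)⁻¹) * (k : G)⁻¹ by group] at e
    set a := (h₁ : G) * h₀ * (h₁ : G)⁻¹
    have ha : a ∈ H := H.mul_mem (H.mul_mem h₁.2 hh₀) (H.inv_mem h₁.2)
    have hc : h * a⁻¹ ∈ K := by
      rw [← e, show (k : G) * a * (k : G)⁻¹ * a⁻¹ = k * (a * (k : G)⁻¹ * a⁻¹) by group]
      exact K.mul_mem k.2 ((inferInstance : K.Normal).conj_mem _ (K.inv_mem k.2) a)
    have h1 : h * a⁻¹ = 1 := Subgroup.disjoint_def.1 hH.disjoint hc (H.mul_mem hh (H.inv_mem ha))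
    rw [mul_inv_eq_one] at h1
    rw [h1] at e
    by_cases ha1 : a = 1
    · rw [h1, ha1]; exact one_mem _
    exfalso
    have haK : a ∉ K := fun h2 => ha1 (Subgroup.disjoint_def.1 hH.disjoint h2 ha)
    have hk1 : (k : G) = 1 := hfpf a haK k k.2 (mul_inv_eq_iff_eq_mul.1 e).symm
    exact hg (by rw [← ek, hk1, one_mul]; exact h₁.2)

namespace Part

variable {G : Type u} [Group G] [Finite G] (P : Part G)

theorem comp_pow {g : G} (k : ℕ) (h : g ^ k ≠ 1) : P.comp (g ^ k) = P.comp g :=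
  P.eq g _ (fun e => h (by rw [e, one_pow])) (pow_mem (P.mem g) k) h

/-- A power in a component puts the element in it. -/
theorem out_pow {a g : G} (ha : a ≠ 1) (k : ℕ) (hk : g ^ k ∈ P.comp a) (hg : g ∉ P.comp a) : g ^ k = 1 := by
  by_contra h
  refine hg ?_
  rw [← P.eq a _ ha hk h, P.comp_pow k h]
  exact P.mem g

theorem not_mem_symm {x y : G} (hx : x ≠ 1) (h : y ∉ P.comp x) : x ∉ P.comp y := by
  intro hm
  by_cases hy : y = 1
  · exact h (hy ▸ one_mem _)
  · exact h (P.eq y x hy hm hx ▸ P.mem y)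

/-- Commuting elements in different components have the same prime order. -/
theorem order_eq {x y : G} (hx : x ≠ 1) (hy : y ≠ 1) (hc : Commute x y) (hxy : x ∉ P.comp y) :
    orderOf x = orderOf y ∧ (orderOf x).Prime := by
  have key : ∀ {x y : G}, x ≠ 1 → y ≠ 1 → Commute x y → x ∉ P.comp y → orderOf x < orderOf y → False := by
    intro x y hx hy hc hxy hlt
    have h1 : (x * y) ^ orderOf x = y ^ orderOf x := by rw [hc.mul_pow, pow_orderOf_eq_one, one_mul]
    have h2 : y ^ orderOf x ≠ 1 := pow_ne_one_of_lt_orderOf (orderOf_pos x).ne' hlt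
    have h3 : P.comp (x * y) = P.comp y := by
      rw [← P.comp_pow _ (by rwa [h1] : (x * y) ^ orderOf x ≠ 1), h1, P.comp_pow _ h2]
    have h4 := P.mem (x * y)
    rw [h3] at h4
    exact hxy ((mul_mem_cancel_right (P.mem y)).1 h4)
  have heq : ∀ {x y : G}, x ≠ 1 → y ≠ 1 → Commute x y → x ∉ P.comp y → orderOf x = orderOf y := by
    intro x y hx hy hc hxy
    rcases lt_trichotomy (orderOf x) (orderOf y) with h | h | h
    · exact (key hx hy hc hxy h).elim
    · exact h
    · exact (key hy hx hc.symm (P.not_mem_symm hy hxy) h).elim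
  refine ⟨heq hx hy hc hxy, Nat.prime_def.2 ⟨?_, fun d hd => ?_⟩⟩
  · have := orderOf_pos x
    have : orderOf x ≠ 1 := fun e => hx (orderOf_eq_one_iff.1 e)
    omega
  · by_contra hne
    push Not at hne
    have hd0 : d ≠ 0 := fun e => (orderOf_pos x).ne' (by simpa [e] using hd)
    have hlt : d < orderOf x := lt_of_le_of_ne (Nat.le_of_dvd (orderOf_pos x) hd) hne.2
    have hxd : x ^ d ≠ 1 := pow_ne_one_of_lt_orderOf hd0 hlt
    have h1 : x ^ d ∉ P.comp y := fun hm => by
      have := P.eq y _ hy hm hxd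
      rw [P.comp_pow d hxd] at this
      exact hxy (this ▸ P.mem x)
    have h2 := heq hxd hy (hc.pow_left d) h1
    rw [orderOf_pow_of_dvd hd0 hd, ← heq hx hy hc hxy] at h2
    have h3 := Nat.div_lt_self (orderOf_pos x) (show 1 < d by omega)
    omega

theorem mem_of_order_ne {x y : G} (hy : y ≠ 1) (hc : Commute x y) (hne : orderOf x ≠ orderOf y) :
    x ∈ P.comp y := by
  by_cases hx : x = 1
  · exact hx ▸ one_mem _
  · by_contra h
    exact hne (P.order_eq hx hy hc h).1

/-- An element carrying one element of a component into it normalises it. -/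
theorem norm_of_mem {a h x : G} (ha : a ≠ 1) (hx : x ∈ P.comp a) (hx1 : x ≠ 1) (hh : h * x * h⁻¹ ∈ P.comp a) :
    h ∈ normalizer (P.comp a : Set G) := by
  have h1 : P.comp (h * x * h⁻¹) = P.comp a := P.eq a _ ha hh (by simpa using hx1)
  rw [P.conj, P.eq a x ha hx hx1] at h1
  exact mem_normalizer_of_le fun y hy => h1 ▸ ⟨y, hy, rfl⟩

/-- An element commuting with a nontrivial element normalises its component. -/
theorem norm_of_commute {a h x : G} (ha : a ≠ 1) (hx : x ∈ P.comp a) (hx1 : x ≠ 1) (hh : Commute h x) :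
    h ∈ normalizer (P.comp a : Set G) :=
  P.norm_of_mem ha hx hx1 (by rwa [hh.eq, mul_inv_cancel_right])

theorem comp_ne_bot {a : G} (ha : a ≠ 1) : P.comp a ≠ ⊥ := fun e => ha (by
  have := P.mem a
  rwa [e, Subgroup.mem_bot] at this)

/-- A self-normalising component is a Frobenius complement. -/
theorem complement_of_self {a : G} (ha : a ≠ 1) (h : normalizer (P.comp a : Set G) = P.comp a) :
    Cfsg.IsFrobeniusComplement (P.comp a) := by
  refine ⟨P.comp_ne_bot ha, P.ne_top a ha, fun g hg => ?_⟩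
  rw [eq_bot_iff]
  rintro x ⟨hx, hx'⟩
  obtain ⟨y, hy, e⟩ := hx'
  change g * y * g⁻¹ = x at e
  rw [Subgroup.mem_bot]
  by_contra hx1
  have hy1 : y ≠ 1 := fun e1 => hx1 (by rw [← e, e1, mul_one, mul_inv_cancel])
  exact hg (h ▸ P.norm_of_mem ha hy hy1 (e ▸ hx))

/-- A component which is not self-normalising is nilpotent. -/
theorem nilpotent_comp {a : G} (ha : a ≠ 1) (h : normalizer (P.comp a : Set G) ≠ P.comp a) :
    Group.IsNilpotent (P.comp a) := by
  obtain ⟨g, hgN, hgX⟩ := SetLike.exists_of_lt (lt_of_le_of_ne le_normalizer (Ne.symm h))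
  set X := P.comp a
  have hg1 : g ≠ 1 := fun e => hgX (e ▸ one_mem _)
  obtain ⟨p, hp, hpd⟩ := Nat.exists_prime_and_dvd (show orderOf g ≠ 1 from fun e => hg1 (orderOf_eq_one_iff.1 e))
  haveI := Fact.mk hp
  set g' := g ^ (orderOf g / p)
  have hg'o : orderOf g' = p := by
    rw [orderOf_pow_of_dvd (Nat.div_ne_zero_iff_of_dvd hpd |>.2 ⟨(orderOf_pos g).ne', hp.ne_zero⟩)
      (Nat.div_dvd_of_dvd hpd), Nat.div_div_self hpd (orderOf_pos g).ne']
  have hg'X : g' ∉ X := fun hm => by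
    have := P.out_pow ha _ hm hgX
    exact hp.ne_one (by rw [← hg'o, ← orderOf_eq_one_iff.2 this])
  set K := X ⊔ zpowers g'
  have hle : K ≤ normalizer (X : Set G) := sup_le le_normalizer (zpowers_le.2 (pow_mem hgN _))
  set X' := X.subgroupOf K with hX'
  haveI hX'n : X'.Normal := Subgroup.normal_subgroupOf_of_le_normalizer hle
  have hXt : X' ≠ ⊤ := fun e => hg'X (by
    have : (⟨g', mem_sup_right (mem_zpowers _)⟩ : K) ∈ X' := e ▸ mem_top _
    exact mem_subgroupOf.1 this)
  have hex : ∀ k : K, k ∉ X' → k ^ p = 1 := by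
    intro k hk
    have hk' : (k : G) ∉ X := fun hm => hk (mem_subgroupOf.2 hm)
    have hkK : (k : G) ∈ ((X ⊔ zpowers g' : Subgroup G) : Set G) := k.2
    rw [Subgroup.coe_mul_of_right_le_normalizer_left X _ (le_sup_right.trans hle)] at hkK
    obtain ⟨x, hx, w, hw, hxw⟩ := Set.mem_mul.1 hkK
    set gK : K := ⟨g', mem_sup_right (mem_zpowers _)⟩
    obtain ⟨i, hi⟩ := mem_zpowers_iff.1 hw
    set q := QuotientGroup.mk' X'
    have he : q k = q (gK ^ i) := by
      have hxe : k = ⟨x, mem_sup_left hx⟩ * gK ^ i := Subtype.ext (by rw [← hxw, ← hi]; rfl)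
      rw [hxe, map_mul]
      have : q ⟨x, mem_sup_left hx⟩ = 1 := (QuotientGroup.eq_one_iff _).2 (mem_subgroupOf.2 hx)
      rw [this, one_mul]
    have hqp : q k ^ p = 1 := by
      rw [he, ← map_pow, ← zpow_natCast (gK ^ i) p, ← zpow_mul, mul_comm, zpow_mul, zpow_natCast,
        show gK ^ p = 1 from Subtype.ext (by rw [← hg'o]; exact pow_orderOf_eq_one _), one_zpow, map_one]
    rw [← map_pow] at hqp
    have hm : ((k ^ p : K) : G) ∈ X := mem_subgroupOf.1 ((QuotientGroup.eq_one_iff _).1 hqp)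
    exact Subtype.ext (P.out_pow ha p hm hk')
  haveI := Cfsg.Lib.SolvStruct.isNilpotent_hughes hX'n hXt hex
  exact Group.nilpotent_of_mulEquiv (subgroupOfEquivOfLe (le_sup_left : X ≤ K))

end Part

end Cfsg.Lib.Partitions
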