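import Cfsg.Agent.Partitions.Radical
import Cfsg.Agent.InvolCalc.CyclicNormalisers.Main
import Cfsg.Agent.InvolCalc.ZStarApps

/-!
Trivial solvable radical: no involution is isolated, and if the components with elements of even order greater than
two have one involution then the cyclic subgroups of even order are rigid.
-/

set_option autoImplicit false
set_option linter.unusedSectionVars false
set_option linter.style.haveILetI false

namespace Cfsg.Lib.Partitions

open Subgroup

universe u

variable {G : Type u} [Group G] [Finite G]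

/-- Abbreviation for a trivial solvable radical. -/
abbrev NoRadical (G : Type u) [Group G] : Prop := ∀ N : Subgroup G, N.Normal → Group.IsSolvable ↥N → N = ⊥

theorem odd_normal_eq_bot (hss : NoRadical G) (N : Subgroup G) (hN : N.Normal) (h : Odd (Nat.card N)) : N = ⊥ :=
  hss N hN (Cfsg.Agent.S0205.result h)

/-- No involution is isolated. -/
theorem not_isolated (hss : NoRadical G) {z : G} (hz : orderOf z = 2) :
    ∃ g : G, Commute z (g * z * g⁻¹) ∧ g * z * g⁻¹ ≠ z := by
  by_contra hall
  push Not at hall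
  have hcore : Cfsg.pPrimeCore 2 G = ⊥ :=
    odd_normal_eq_bot hss _ inferInstance Cfsg.Lib.ZStarApps.odd_card_pPrimeCore
  have hcen : ∀ g : G, Commute z g := fun g => by
    have h1 := Cfsg.Lib.ZStarApps.zstarProp (z := z) ⟨hz, hall⟩ g
    rw [hcore, Subgroup.mem_bot, mul_inv_eq_one] at h1
    exact mul_inv_eq_iff_eq_mul.1 h1
  have hn : (zpowers z).Normal := ⟨fun w hw g => by
    obtain ⟨k, rfl⟩ := mem_zpowers_iff.1 hw
    rw [show g * z ^ k * g⁻¹ = z ^ k by rw [((hcen g).symm.zpow_right k).eq, mul_inv_cancel_right]]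
    exact zpow_mem (mem_zpowers z) k⟩
  have h1 : zpowers z = ⊥ := hss _ hn (Group.isSolvable_of_comm fun a b => mul_comm' a b)
  rw [zpowers_eq_bot] at h1
  rw [h1, orderOf_one] at hz
  omega

variable (P : Part G)

include P in
/-- The rigid case. -/
theorem cycNorm (hss : NoRadical G)
    (hA : ∀ x : G, Even (orderOf x) → 2 < orderOf x → ∀ a ∈ P.comp x, ∀ b ∈ P.comp x,
      orderOf a = 2 → orderOf b = 2 → a = b) : Cfsg.Lib.CyclicNorm.CycNorm G := by
  intro x t y ht htx hyx hy g
  have hx1 : x ≠ 1 := fun e => by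
    rw [e, zpowers_one_eq_bot, Subgroup.mem_bot] at htx
    rw [htx, orderOf_one] at ht
    omega
  have hev : Even (orderOf x) := even_iff_two_dvd.2 (ht ▸ orderOf_dvd_of_mem_zpowers htx)
  by_cases h2 : orderOf x = 2
  · have hy2 : orderOf y = 2 := ((Nat.dvd_prime Nat.prime_two).1 (h2 ▸ orderOf_dvd_of_mem_zpowers hyx)).resolve_left
      fun e => hy (orderOf_eq_one_iff.1 e)
    have hyt : y = t := Cfsg.Lib.CyclicNorm.invol_unique hyx htx hy2 ht
    subst hyt
    constructor
    · intro h
      exact mul_inv_eq_iff_eq_mul.1 (Cfsg.Lib.CyclicNorm.invol_unique h (mem_zpowers y)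
        (by rw [ord_conj, ht]) ht)
    · intro h
      rw [h.eq, mul_inv_cancel_right]
      exact mem_zpowers y
  have hlt : 2 < orderOf x := by
    have h1 := orderOf_pos x
    obtain ⟨j, hj⟩ := hev
    omega
  set X := P.comp x
  have hzX : zpowers x ≤ X := zpowers_le.2 (P.mem x)
  have huniq : ∀ a ∈ X, orderOf a = 2 → a = t := fun a ha ha2 => hA x hev hlt a ha t (hzX htx) ha2 ht
  have hcentral : ∀ h ∈ X, Commute h t := fun h hh =>
    mul_inv_eq_iff_eq_mul.1 (huniq _ (X.mul_mem (X.mul_mem hh (hzX htx)) (X.inv_mem hh)) (by rw [ord_conj, ht]))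
  have ht1 : t ≠ 1 := fun e => by rw [e, orderOf_one] at ht; omega
  have hout : ∀ h : G, h ∉ X → Commute h t → orderOf h = 2 := fun h hh hc => by
    have h1 := (P.order_eq (fun e => hh (by rw [e]; exact one_mem _)) ht1 hc (by rwa [P.eq x t hx1 (hzX htx) ht1])).1
    rw [h1, ht]
  constructor
  · intro h
    have hyX : y ∈ X := hzX hyx
    have hn := P.norm_of_mem hx1 hyX hy (zpowers_le.2 hyX h)
    exact mul_inv_eq_iff_eq_mul.1 (huniq _ ((mem_normalizer_iff.1 hn t).1 (hzX htx)) (by rw [ord_conj, ht]))
  · intro hg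
    obtain ⟨c, hc, hct⟩ := not_isolated hss ht
    set u := c * t * c⁻¹
    have hu : orderOf u = 2 := by rw [ord_conj, ht]
    have huX : u ∉ X := fun h => hct (huniq u h hu)
    have hinv : ∀ w : G, w ∉ X → Commute w t → ∀ h ∈ X, w * h * w⁻¹ = h⁻¹ := by
      intro w hw hwt h hh
      have h1 : orderOf (w * h) = 2 := hout _ (fun e => hw ((mul_mem_cancel_right hh).1 e))
        (hwt.mul_left (hcentral h hh))
      have h2 : (w * h) * (w * h) = 1 := by rw [← pow_two, ← h1, pow_orderOf_eq_one]
      have h3 : w * w = 1 := by rw [← pow_two, ← hout w hw hwt, pow_orderOf_eq_one]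
      rw [inv_eq_of_mul_eq_one_right h3]
      exact eq_inv_of_mul_eq_one_left (by rw [show w * h * w * h = (w * h) * (w * h) by group, h2])
    by_cases hgX : g ∈ X
    · -- the component is commutative
      have hab : Commute g y := by
        have e1 := hinv u huX hc.symm _ (X.mul_mem hgX (hzX hyx))
        rw [show u * (g * y) * u⁻¹ = (u * g * u⁻¹) * (u * y * u⁻¹) by group, hinv u huX hc.symm g hgX,
          hinv u huX hc.symm y (hzX hyx), ← mul_inv_rev, inv_inj] at e1
        exact e1.symm
      rw [hab.eq, mul_inv_cancel_right]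
      exact mem_zpowers y
    · rw [hinv g hgX hg y (hzX hyx)]
      exact inv_mem (mem_zpowers y)

end Cfsg.Lib.Partitions
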