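import Cfsg.Agent.Partitions.Basic
import Cfsg.Agent.Coprime.Hall
import Cfsg.Agent.S0205

/-!
A normal elementary abelian subgroup not inside the outer components: the elements of order prime to `q` act
without fixed points, the `q`-elements form a normal subgroup together with the centraliser.
-/

set_option autoImplicit false
set_option linter.unusedSectionVars false
set_option linter.style.haveILetI false

namespace Cfsg.Lib.Partitions

open Subgroup

universe u

/-- The product of the conjugates. -/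
theorem mul_pow_conj {G : Type u} [Group G] (V : Subgroup G) [V.Normal] (hab : ∀ a ∈ V, ∀ b ∈ V, Commute a b)
    (v : V) (g : G) (n : ℕ) :
    letI : CommGroup V := { (inferInstance : Group V) with mul_comm := fun a b => Subtype.ext (hab a a.2 b b.2).eq }
    ((v : G) * g) ^ n = ((∏ i ∈ Finset.range n, MulAut.conjNormal (g ^ i) v : V) : G) * g ^ n := by
  letI : CommGroup V := { (inferInstance : Group V) with mul_comm := fun a b => Subtype.ext (hab a a.2 b b.2).eq }
  induction n with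
  | zero => simp
  | succ n ih =>
    rw [pow_succ ((v : G) * g), ih, Finset.prod_range_succ, Subgroup.coe_mul, MulAut.conjNormal_apply, pow_succ g]
    group

/-- No element of order `q` with trivial norm normalises a fixed-point-free subgroup of order prime to `q`
without centralising some of it. -/
theorem no_normalised {A : Type*} [CommGroup A] [Finite A] [Nontrivial A] {H : Type*} [Group H] [Finite H]
    (f : H →* MulAut A) {q : ℕ} [Fact q.Prime] (hA : ∀ a : A, a ^ q = 1) (R : Subgroup H)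
    (hcop : (Nat.card R).Coprime q) (hR : R ≠ ⊥) (c : H) (hn : ∀ r ∈ R, c * r * c⁻¹ ∈ R)
    (hfpf : ∀ r ∈ R, r ≠ 1 → ∀ a : A, f r a = a → a = 1)
    (hnc : ∀ r ∈ R, ∀ i < q, i ≠ 0 → Commute r (c ^ i) → r = 1)
    (hnorm : ∀ a : A, ∏ i ∈ Finset.range q, f (c ^ i) a = 1) : False := by
  classical
  haveI := Fintype.ofFinite R
  have hN : ∀ a : A, ∏ r : R, f r a = 1 := by
    intro a
    obtain ⟨r₀, hr₀, hr1⟩ := (bot_or_exists_ne_one R).resolve_left hR
    refine hfpf r₀ hr₀ hr1 _ ?_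
    rw [map_prod]
    exact Fintype.prod_equiv (Equiv.mulLeft (⟨r₀, hr₀⟩ : R)) _ _ fun r => by
      show f r₀ (f r a) = f (r₀ * r) a
      rw [map_mul]; rfl
  have hpow : ∀ i : ℕ, ∀ r ∈ R, c ^ i * r * (c ^ i)⁻¹ ∈ R := by
    intro i
    induction i with
    | zero => intro r hr; simpa using hr
    | succ i ih =>
      intro r hr
      rw [show c ^ (i + 1) * r * (c ^ (i + 1))⁻¹ = c ^ i * (c * r * c⁻¹) * (c ^ i)⁻¹ by rw [pow_succ]; group]
      exact ih _ (hn r hr)
  obtain ⟨a, ha⟩ := exists_ne (1 : A)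
  have key : ∏ r : R, ∏ i ∈ Finset.range q, f ((r : H) * c ^ i * (r : H)⁻¹) a = 1 := by
    refine Finset.prod_eq_one fun r _ => ?_
    have e : ∀ i : ℕ, f ((r : H) * c ^ i * (r : H)⁻¹) a = f r (f (c ^ i) (f (r : H)⁻¹ a)) := fun i => by
      rw [map_mul, map_mul]; rfl
    rw [Finset.prod_congr rfl fun i _ => e i, ← map_prod, hnorm, map_one]
  rw [Finset.prod_comm, ← Finset.mul_prod_erase (Finset.range q) _
    (Finset.mem_range.2 (Fact.out : q.Prime).pos)] at key
  have hrest : ∀ i ∈ (Finset.range q).erase 0, ∏ r : R, f ((r : H) * c ^ i * (r : H)⁻¹) a = 1 := by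
    intro i hi
    rw [Finset.mem_erase, Finset.mem_range] at hi
    let σ : R → R := fun r => ⟨(r : H) * (c ^ i * (r : H)⁻¹ * (c ^ i)⁻¹), R.mul_mem r.2 (hpow i _ (R.inv_mem r.2))⟩
    have hσ : Function.Injective σ := by
      intro r s e
      have e' : (r : H) * (c ^ i * (r : H)⁻¹ * (c ^ i)⁻¹) = s * (c ^ i * (s : H)⁻¹ * (c ^ i)⁻¹) :=
        congrArg Subtype.val e
      have h1 : Commute ((s : H)⁻¹ * r) (c ^ i) := by
        show (s : H)⁻¹ * r * c ^ i = c ^ i * ((s : H)⁻¹ * r)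
        calc (s : H)⁻¹ * r * c ^ i
            = (s : H)⁻¹ * ((r : H) * (c ^ i * (r : H)⁻¹ * (c ^ i)⁻¹)) * (c ^ i * r) := by group
          _ = (s : H)⁻¹ * ((s : H) * (c ^ i * (s : H)⁻¹ * (c ^ i)⁻¹)) * (c ^ i * r) := by rw [e']
          _ = c ^ i * ((s : H)⁻¹ * r) := by group
      exact Subtype.ext (inv_mul_eq_one.1 (hnc _ (R.mul_mem (R.inv_mem s.2) r.2) i hi.2 hi.1 h1)).symm
    rw [← hN (f (c ^ i) a), ← (Finite.injective_iff_bijective.1 hσ).prod_comp (g := fun r : R => f r (f (c ^ i) a))]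
    refine Finset.prod_congr rfl fun r _ => ?_
    show f ((r : H) * c ^ i * (r : H)⁻¹) a = f ((r : H) * (c ^ i * (r : H)⁻¹ * (c ^ i)⁻¹)) (f (c ^ i) a)
    rw [show f ((r : H) * (c ^ i * (r : H)⁻¹ * (c ^ i)⁻¹)) (f (c ^ i) a)
      = f ((r : H) * (c ^ i * (r : H)⁻¹ * (c ^ i)⁻¹) * c ^ i) a by rw [map_mul f _ (c ^ i)]; rfl]
    congr 2
    group
  rw [Finset.prod_eq_one hrest, mul_one] at key
  simp only [pow_zero, mul_one, mul_inv_cancel, map_one, MulAut.one_apply, Finset.prod_const, Finset.card_univ] at key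
  rw [← Nat.card_eq_fintype_card] at key
  obtain ⟨j, hj⟩ := exists_pow_eq_self_of_coprime (x := a) (n := Nat.card R)
    (hcop.coprime_dvd_right (orderOf_dvd_of_pow_eq_one (hA a)))
  exact ha (by rw [← hj, key, one_pow])

/-- An element of order prime to `q` whose component does not contain `V` acts on it without fixed points. -/
theorem fixed_trivial {G : Type u} [Group G] [Finite G] {P : Part G} {q : ℕ} [Fact q.Prime] {V : Subgroup G}
    (hn : V.Normal) (hcomm' : ∀ a ∈ V, ∀ b ∈ V, Commute a b) (hexp : ∀ a ∈ V, a ^ q = 1) {g v : G}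
    (hg1 : g ≠ 1) (hout : ¬ V ≤ P.comp g) (hcop : (orderOf g).Coprime q) (hv : v ∈ V) (hc : Commute g v) :
    v = 1 := by
  haveI := hn
  by_contra hv1
  have hne : orderOf g ≠ q := fun e => by
    rw [e, Nat.coprime_self] at hcop
    exact (Fact.out : q.Prime).ne_one hcop
  have hgY : g ∈ P.comp v := P.mem_of_order_ne hv1 hc (by rwa [orderOf_eq_prime (hexp v hv) hv1])
  set Y := P.comp v
  refine hout ?_
  rw [P.eq v g hv1 hgY hg1]
  intro m hm
  -- conjugates of powers of g by V stay in Y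
  have hconj : ∀ i : ℕ, g ^ i * m * (g ^ i)⁻¹ * m⁻¹ ∈ Y := by
    intro i
    have h1 : m * g * m⁻¹ ∈ Y := by
      refine P.mem_of_order_ne hv1 ?_ (by rwa [ord_conj, orderOf_eq_prime (hexp v hv) hv1])
      have hmv : Commute m v := hcomm' m hm v hv
      exact (hmv.mul_left hc).mul_left hmv.inv_left
    have h2 : m * (g ^ i)⁻¹ * m⁻¹ ∈ Y := by
      rw [show m * (g ^ i)⁻¹ * m⁻¹ = ((m * g * m⁻¹) ^ i)⁻¹ by rw [conj_pow]; group]
      exact inv_mem (pow_mem h1 i)
    rw [show g ^ i * m * (g ^ i)⁻¹ * m⁻¹ = g ^ i * (m * (g ^ i)⁻¹ * m⁻¹) by group]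
    exact Y.mul_mem (pow_mem hgY i) h2
  have hmem : ∀ i : ℕ, g ^ i * m * (g ^ i)⁻¹ ∈ V := fun i => hn.conj_mem m hm _
  have hs : ∀ i : ℕ, (m * g) ^ i * (g ^ i)⁻¹ ∈ V ∧ (m * g) ^ i * (g ^ i)⁻¹ * (m ^ i)⁻¹ ∈ Y := by
    intro i
    induction i with
    | zero => simp
    | succ i ih =>
      have e : (m * g) ^ (i + 1) * (g ^ (i + 1))⁻¹ = (m * g) ^ i * (g ^ i)⁻¹ * (g ^ i * m * (g ^ i)⁻¹) := by
        rw [pow_succ, pow_succ]; group
      refine ⟨e ▸ V.mul_mem ih.1 (hmem i), ?_⟩
      have e2 : (m * g) ^ (i + 1) * (g ^ (i + 1))⁻¹ * (m ^ (i + 1))⁻¹ =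
          (m * g) ^ i * (g ^ i)⁻¹ * ((g ^ i * m * (g ^ i)⁻¹ * m⁻¹) * (m ^ i)⁻¹) := by
        rw [e, pow_succ]; group
      have hcomm : Commute (g ^ i * m * (g ^ i)⁻¹ * m⁻¹) (m ^ i)⁻¹ :=
        hcomm' _ (V.mul_mem (hmem i) (V.inv_mem hm)) _ (V.inv_mem (pow_mem hm i))
      rw [e2, hcomm.eq, ← mul_assoc]
      exact Y.mul_mem ih.2 (hconj i)
  obtain ⟨hcV, hcY⟩ := hs (orderOf g)
  rw [pow_orderOf_eq_one, inv_one, mul_one] at hcV hcY
  set c := (m * g) ^ orderOf g with hcd
  have hcY' : c ∈ Y := by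
    by_cases h : c = 1
    · exact h ▸ one_mem _
    have h1 : Commute c (m * g) := (Commute.refl (m * g)).pow_left _
    have h2 : Commute c g := by
      have h3 := (hcomm' c hcV m hm).inv_right.mul_right h1
      rwa [inv_mul_cancel_left] at h3
    have h4 : c ∈ P.comp g := P.mem_of_order_ne hg1 h2 (by rw [orderOf_eq_prime (hexp c hcV) h]; exact hne.symm)
    rwa [P.eq v g hv1 hgY hg1] at h4
  have hmn : m ^ orderOf g ∈ Y := by
    have := Y.mul_mem (Y.inv_mem hcY) hcY'
    simpa [mul_assoc] using this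
  obtain ⟨j, hj⟩ := exists_pow_eq_self_of_coprime (x := m) (n := orderOf g)
    (hcop.coprime_dvd_right (orderOf_dvd_of_pow_eq_one (hexp m hm)))
  exact hj ▸ pow_mem hmn j

/-- The setting: `V` is not contained in the components outside `X₀`. -/
structure Setting {G : Type u} [Group G] (P : Part G) (q : ℕ) (V X₀ : Subgroup G) : Prop where
  normal : V.Normal
  ne : V ≠ ⊥
  comm : ∀ a ∈ V, ∀ b ∈ V, Commute a b
  exp : ∀ a ∈ V, a ^ q = 1
  cent : X₀ ≤ centralizer (V : Set G)
  comp_le : ∀ x ∈ X₀, x ≠ 1 → P.comp x ≤ X₀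
  out : ∀ g : G, g ∉ X₀ → ¬ V ≤ P.comp g
  ordq : ∀ (g : G) (i : ℕ), g ∉ X₀ → g ^ q ^ i = 1 → g ^ q = 1
  normz : ∀ g : G, g ∉ centralizer (V : Set G) → g ^ q = 1 → ∀ v ∈ V, (v * g) ^ q = 1

namespace Setting

variable {G : Type u} [Group G] [Finite G] {P : Part G} {q : ℕ} {V X₀ : Subgroup G} [Fact q.Prime]
  (S : Setting P q V X₀)
include S

theorem le_cent : V ≤ centralizer (V : Set G) := fun a ha =>
  mem_centralizer_iff.2 fun b hb => (S.comm b hb a ha).eq

theorem order_V {v : G} (hv : v ∈ V) (h1 : v ≠ 1) : orderOf v = q := orderOf_eq_prime (S.exp v hv) h1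

omit S in
theorem ne_cent {g : G} (hg : g ∉ centralizer (V : Set G)) : g ≠ 1 := fun e => hg (e ▸ one_mem _)

/-- Elements of order prime to `q` outside the centraliser act without fixed points. -/
theorem fpf {g v : G} (hg : g ∉ centralizer (V : Set G)) (hcop : (orderOf g).Coprime q) (hv : v ∈ V)
    (hc : Commute g v) : v = 1 :=
  fixed_trivial S.normal S.comm S.exp (ne_cent hg) (S.out g fun h => hg (S.cent h)) hcop hv hc

/-- An element centralising `V` outside `X₀` has order `q`. -/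
theorem order_cent {g : G} (hg : g ∈ centralizer (V : Set G)) (hgX : g ∉ X₀) : orderOf g = q := by
  obtain ⟨v, hv, hvg⟩ := SetLike.not_le_iff_exists.1 (S.out g hgX)
  have hv1 : v ≠ 1 := fun e => hvg (e ▸ one_mem _)
  have hg1 : g ≠ 1 := fun e => hgX (e ▸ one_mem _)
  rw [← S.order_V hv hv1]
  exact ((P.order_eq hv1 hg1 (mem_centralizer_iff.1 hg v hv) hvg).1).symm

/-- No element of order `q` outside `X₀` commutes with an element of order prime to `q` outside the centraliser. -/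
theorem no_commute {c g : G} {i : ℕ} (hc : c ∉ X₀) (hcq : c ^ q ^ i = 1) (hg : g ∉ centralizer (V : Set G))
    (hgq : (orderOf g).Coprime q) (h : Commute g c) : False := by
  classical
  haveI := S.normal
  have hcq1 := S.ordq c i hc hcq
  have hc1 : c ≠ 1 := fun e => hc (e ▸ one_mem _)
  have hco : orderOf c = q := orderOf_eq_prime hcq1 hc1
  have hgc : g ∈ P.comp c := P.mem_of_order_ne hc1 h fun e => by
    rw [e, hco, Nat.coprime_self] at hgq
    exact (Fact.out : q.Prime).ne_one hgq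
  set Y := P.comp c
  set W := V ⊓ Y
  set R := W ⊔ zpowers c
  have hRY : R ≤ Y := sup_le inf_le_right (zpowers_le.2 (P.mem c))
  set Q := V ⊔ zpowers c
  have hQp : IsPGroup q ↥Q := by
    refine IsPGroup.to_sup_of_normal_left ?_ ?_
    · exact fun v => ⟨1, Subtype.ext (by rw [pow_one]; exact S.exp v v.2)⟩
    · exact IsPGroup.of_card (n := 1) (by rw [Nat.card_zpowers, hco, pow_one])
  haveI : Group.IsNilpotent ↥Q := hQp.isNilpotent
  have hRQ : R ≤ Q := sup_le (inf_le_left.trans le_sup_left) le_sup_right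
  have hlt : R.subgroupOf Q < ⊤ := lt_top_iff_ne_top.2 fun e => by
    obtain ⟨v, hv, hvY⟩ := SetLike.not_le_iff_exists.1 (S.out c hc)
    exact hvY (hRY (mem_subgroupOf.1 (e ▸ mem_top (⟨v, mem_sup_left hv⟩ : Q))))
  obtain ⟨⟨n, hnQ⟩, hnN, hnR⟩ := SetLike.exists_of_lt (Group.normalizerCondition_of_isNilpotent (G := ↥Q) _ hlt)
  have hnQ' : n ∈ ((V ⊔ zpowers c : Subgroup G) : Set G) := hnQ
  rw [Subgroup.coe_mul_of_right_le_normalizer_left V _ le_normalizer_of_normal] at hnQ'
  obtain ⟨v, hv, w, hw, e⟩ := Set.mem_mul.1 hnQ'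
  have hwR : w ∈ R := mem_sup_right hw
  have hvR : v ∉ R := fun hm => hnR (mem_subgroupOf.2 (by
    show n ∈ R
    exact e ▸ R.mul_mem hm hwR))
  have hvW : v ∉ W := fun hm => hvR (mem_sup_left hm)
  have h1 : v * c * v⁻¹ ∈ R := by
    have h2 := (mem_normalizer_iff.1 hnN (⟨w⁻¹ * c * w, hRQ (R.mul_mem (R.mul_mem (R.inv_mem hwR)
      (mem_sup_right (mem_zpowers c))) hwR)⟩)).1 (mem_subgroupOf.2 (R.mul_mem (R.mul_mem (R.inv_mem hwR)
      (mem_sup_right (mem_zpowers c))) hwR))
    have h3 : n * (w⁻¹ * c * w) * n⁻¹ ∈ R := mem_subgroupOf.1 h2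
    rwa [← e, show v * w * (w⁻¹ * c * w) * (v * w)⁻¹ = v * c * v⁻¹ by group] at h3
  -- the map to W
  have hmap : ∀ u ∈ V, u * c * u⁻¹ ∈ Y → u * g * u⁻¹ * g⁻¹ ∈ W := by
    intro u hu huc
    have hN := P.norm_of_mem hc1 (P.mem c) hc1 huc
    refine ⟨?_, Y.mul_mem ((mem_normalizer_iff.1 hN g).1 hgc) (Y.inv_mem hgc)⟩
    rw [show u * g * u⁻¹ * g⁻¹ = u * (g * u⁻¹ * g⁻¹) by group]
    exact V.mul_mem hu (S.normal.conj_mem _ (V.inv_mem hu) g)
  have hWc : ∀ u ∈ W, u * c * u⁻¹ ∈ Y := fun u hu => Y.mul_mem (Y.mul_mem hu.2 (P.mem c)) (Y.inv_mem hu.2)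
  have hinj : ∀ u ∈ V, ∀ u' ∈ V, u * g * u⁻¹ * g⁻¹ = u' * g * u'⁻¹ * g⁻¹ → u = u' := by
    intro u hu u' hu' he
    have h3 : Commute g (u'⁻¹ * u) := by
      show g * (u'⁻¹ * u) = u'⁻¹ * u * g
      calc g * (u'⁻¹ * u) = u'⁻¹ * (u' * g * u'⁻¹ * g⁻¹) * g * u := by group
        _ = u'⁻¹ * (u * g * u⁻¹ * g⁻¹) * g * u := by rw [he]
        _ = u'⁻¹ * u * g := by group
    exact (inv_mul_eq_one.1 (S.fpf hg hgq (V.mul_mem (V.inv_mem hu') hu) h3)).symm
  let φ : W → W := fun u => ⟨_, hmap u u.2.1 (hWc u u.2)⟩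
  have hφ : Function.Injective φ := fun u u' he =>
    Subtype.ext (hinj u u.2.1 u' u'.2.1 (congrArg Subtype.val he))
  obtain ⟨⟨u, hu⟩, hu'⟩ := (Finite.injective_iff_surjective.1 hφ) ⟨_, hmap v hv (hRY h1)⟩
  exact hvW (hinj u hu.1 v hv (congrArg Subtype.val hu') ▸ hu)

/-- The `q`-elements lie, with the centraliser, in a normal subgroup whose outer elements act without fixed
points on it. -/
theorem exists_kernel (hX : X₀.Normal) : ∃ K : Subgroup G, K.Normal ∧ X₀ ≤ K ∧ centralizer (V : Set G) ≤ K ∧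
    (∀ (g : G) (i : ℕ), g ^ q ^ i = 1 → g ∈ K) ∧ (∀ k ∈ K, k ∉ X₀ → k ^ q = 1) ∧
    (∀ g : G, g ∉ K → ∀ k ∈ K, k ∉ X₀ → Commute g k → False) := by
  classical
  haveI := S.normal
  set E := centralizer (V : Set G)
  letI : CommGroup V := { (inferInstance : Group V) with mul_comm := fun a b => Subtype.ext (S.comm a a.2 b b.2).eq }
  haveI : Nontrivial V := (nontrivial_iff_ne_bot V).2 S.ne
  have hVexp : ∀ a : V, a ^ q = 1 := fun a => Subtype.ext (S.exp a a.2)
  let ρ : G →* MulAut V := MulAut.conjNormal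
  have hker : ∀ g : G, ρ g = 1 → g ∈ E := fun g hg => mem_centralizer_iff.2 fun v hv => by
    have h1 : ρ g ⟨v, hv⟩ = ⟨v, hv⟩ := by rw [hg]; rfl
    have h2 : g * v * g⁻¹ = v := (MulAut.conjNormal_apply g ⟨v, hv⟩).symm.trans (congrArg Subtype.val h1)
    exact (mul_inv_eq_iff_eq_mul.1 h2).symm
  have hker' : ∀ g ∈ E, ρ g = 1 := fun g hg => MulEquiv.ext fun v => Subtype.ext (by
    rw [MulAut.conjNormal_apply, MulAut.one_apply, ← mem_centralizer_iff.1 hg v v.2, mul_inv_cancel_right])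
  set H := ρ.range
  haveI : Finite H := Finite.of_surjective ρ.rangeRestrict ρ.rangeRestrict_surjective
  let f : H →* MulAut V := H.subtype
  let π : G →* H := ρ.rangeRestrict
  have hπ : Function.Surjective π := ρ.rangeRestrict_surjective
  have hπk : ∀ g, π g = 1 ↔ g ∈ E := fun g =>
    ⟨fun e => hker g (congrArg Subtype.val e), fun e => Subtype.ext (hker' g e)⟩
  -- lifts
  have liftq : ∀ (a : H) (i : ℕ), a ^ q ^ i = 1 → ∃ g : G, π g = a ∧ ∃ j, g ^ q ^ j = 1 := by
    intro a i ha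
    obtain ⟨g, rfl⟩ := hπ a
    obtain ⟨k, l, hkl, hk, hl⟩ := split q g
    refine ⟨g ^ k, ?_, hk⟩
    have h1 : π (g ^ l) = 1 := eq_one_of_two_kinds (q := q) (i := i)
      (by rw [map_pow, ← pow_mul, mul_comm, pow_mul, ha, one_pow]) (hl.coprime_dvd_left (orderOf_map_dvd π _))
    conv_rhs => rw [hkl, map_mul, h1, mul_one]
  have liftc : ∀ a : H, (orderOf a).Coprime q → ∃ g : G, π g = a ∧ (orderOf g).Coprime q := by
    intro a ha
    obtain ⟨g, rfl⟩ := hπ a
    obtain ⟨k, l, hkl, ⟨i, hk⟩, hl⟩ := split q g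
    refine ⟨g ^ l, ?_, hl⟩
    have h1 : π (g ^ k) = 1 := eq_one_of_two_kinds (q := q) (i := i) (by rw [← map_pow, hk, map_one])
      (ha.coprime_dvd_left (orderOf_dvd_of_pow_eq_one (by rw [map_pow, ← pow_mul, mul_comm, pow_mul, pow_orderOf_eq_one, one_pow])))
    conv_rhs => rw [hkl, map_mul, h1, one_mul]
  have hfpf : ∀ r : H, r ≠ 1 → (orderOf r).Coprime q → ∀ v : V, f r v = v → v = 1 := by
    intro r hr hrq v hv
    obtain ⟨g, rfl, hg⟩ := liftc r hrq
    have h1 : g * (v : G) * g⁻¹ = v := (MulAut.conjNormal_apply g v).symm.trans (congrArg Subtype.val hv)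
    exact Subtype.ext (S.fpf (fun hm => hr ((hπk g).2 hm)) hg v.2 (mul_inv_eq_iff_eq_mul.1 h1))
  have hq1 : ∀ (a : H) (i : ℕ), a ^ q ^ i = 1 → a ^ q = 1 ∧
      (a ≠ 1 → ∀ v : V, ∏ j ∈ Finset.range q, f (a ^ j) v = 1) := by
    intro a i ha
    by_cases ha1 : a = 1
    · exact ⟨by rw [ha1, one_pow], fun h => (h ha1).elim⟩
    obtain ⟨g, rfl, j, hj⟩ := liftq a i ha
    have hgE : g ∉ E := fun hm => ha1 ((hπk g).2 hm)
    have hgq := S.ordq g j (fun hm => hgE (S.cent hm)) hj
    refine ⟨by rw [← map_pow, hgq, map_one], fun _ v => ?_⟩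
    have h1 := mul_pow_conj V S.comm v g q
    rw [S.normz g hgE hgq v v.2, hgq, mul_one] at h1
    refine Subtype.ext ?_
    rw [OneMemClass.coe_one, h1]
    refine congrArg Subtype.val (Finset.prod_congr rfl fun k _ => ?_)
    rw [← map_pow]
    rfl
  have hnc : ∀ (a r : H) (i : ℕ), a ≠ 1 → a ^ q ^ i = 1 → r ≠ 1 → (orderOf r).Coprime q → Commute r a → False := by
    intro a r i ha1 ha hr1 hr hra
    obtain ⟨g, hg⟩ := hπ (a * r)
    obtain ⟨k, l, hkl, ⟨j, hk⟩, hl⟩ := split q g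
    set a' := π (g ^ k)
    set r' := π (g ^ l)
    have hprod : a * r = a' * r' := by rw [← hg, ← map_mul, ← hkl]
    have hca : Commute a a' := by
      rw [show a' = (a * r) ^ k by rw [← hg, ← map_pow]]
      exact ((Commute.refl a).mul_right hra.symm).pow_right k
    have hcr : Commute r r' := by
      rw [show r' = (a * r) ^ l by rw [← hg, ← map_pow]]
      exact (hra.mul_right (Commute.refl r)).pow_right l
    obtain ⟨ea', er'⟩ := split_unique hprod hca hcr ha
      (show a' ^ q ^ j = 1 by rw [← map_pow, hk, map_one]) hr (hl.coprime_dvd_left (orderOf_map_dvd π _))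
    have ea : a' = a := ea'.symm
    have er : r' = r := er'.symm
    refine S.no_commute (c := g ^ k) (g := g ^ l) (i := j) (fun hm => ha1 ?_) hk (fun hm => hr1 ?_) hl
      ((Commute.refl g).pow_pow l k)
    · rw [← ea]; exact (hπk _).2 (S.cent hm)
    · rw [← er]; exact (hπk _).2 hm
  have hnorm' : ∀ (a : H) (i : ℕ) (R : Subgroup H), a ≠ 1 → a ^ q ^ i = 1 → R ≠ ⊥ → (Nat.card R).Coprime q →
      (∀ r ∈ R, a * r * a⁻¹ ∈ R) → False := by
    intro a i R ha1 ha hR hcop hn
    obtain ⟨haq, han⟩ := hq1 a i ha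
    refine no_normalised f hVexp R hcop hR a hn (fun r hr hr1 => hfpf r hr1 (hcop.coprime_dvd_left (orderOf_dvd_natCard _ hr)))
      (fun r hr j hj hj0 hc => ?_) (han ha1)
    by_contra hr1
    refine hnc (a ^ j) r 1 ?_ ?_ hr1 (hcop.coprime_dvd_left (orderOf_dvd_natCard _ hr)) hc
    · exact pow_ne_one_of_lt_orderOf hj0 (by rwa [orderOf_eq_prime haq ha1])
    · rw [pow_one, ← pow_mul, mul_comm, pow_mul, haq, one_pow]
  -- the q-core of the image
  obtain ⟨W, hWn, hWp, hWall⟩ : ∃ W : Subgroup H, W.Normal ∧ IsPGroup q W ∧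
      ∀ (a : H) (i : ℕ), a ^ q ^ i = 1 → a ∈ W := by
    by_cases hqd : q ∣ Nat.card H
    swap
    · refine ⟨⊥, inferInstance, IsPGroup.of_bot, fun a i ha => ?_⟩
      rw [Subgroup.mem_bot]
      exact eq_one_of_two_kinds ha ((((Fact.out : q.Prime).coprime_iff_not_dvd.2 hqd).symm).coprime_dvd_left
        (_root_.orderOf_dvd_natCard a))
    obtain ⟨c, hc⟩ := exists_prime_orderOf_dvd_card' (G := H) q hqd
    have hc1 : c ≠ 1 := fun e => by rw [e, orderOf_one] at hc; exact (Fact.out : q.Prime).ne_one hc.symm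
    have hcq : c ^ q = 1 := hc ▸ pow_orderOf_eq_one c
    have hodd : Odd (Nat.card H) := by
      rw [← Nat.not_even_iff_odd]
      intro hev
      rcases (Fact.out : q.Prime).eq_two_or_odd with h2 | h2
      · obtain ⟨-, hn⟩ := hq1 c 1 (by rwa [pow_one])
        refine hc1 (Subtype.ext (MulEquiv.ext fun v => ?_))
        have h3 := hn hc1 v
        rw [h2, Finset.prod_range_succ, Finset.prod_range_one, pow_zero, map_one, MulAut.one_apply, pow_one] at h3
        have h4 : v * v = 1 := by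
          have := hVexp v
          rwa [h2, pow_two] at this
        show f c v = v
        exact mul_left_cancel (h3.trans h4.symm)
      · haveI : Fact (Nat.Prime 2) := ⟨Nat.prime_two⟩
        obtain ⟨z, hz⟩ := exists_prime_orderOf_dvd_card' (G := H) 2 hev.two_dvd
        have hz1 : z ≠ 1 := fun e => by rw [e, orderOf_one] at hz; omega
        have hzq : (orderOf z).Coprime q := by
          rw [hz, Nat.coprime_two_left, Nat.odd_iff]
          exact h2
        have hzz : z * z = 1 := by rw [← pow_two, ← hz, pow_orderOf_eq_one]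
        have hinv : ∀ v : V, f z v = v⁻¹ := fun v => by
          have h3 : f z (v * f z v) = v * f z v := by
            rw [map_mul, show f z (f z v) = f (z * z) v by rw [map_mul]; rfl, hzz, map_one, MulAut.one_apply, mul_comm]
          exact eq_inv_of_mul_eq_one_right (hfpf z hz1 hzq _ h3)
        refine hnc c z 1 hc1 (by rwa [pow_one]) hz1 hzq (Subtype.ext (MulEquiv.ext fun v => ?_))
        show f z (f c v) = f c (f z v)
        rw [hinv, hinv, map_inv]
    haveI : Group.IsSolvable H := Cfsg.Agent.S0205.result hodd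
    obtain ⟨W, ⟨hWn, hWp⟩, hmax⟩ := WellFounded.has_min (wellFounded_gt (α := Subgroup H))
      {W | W.Normal ∧ IsPGroup q W} ⟨⊥, inferInstance, IsPGroup.of_bot⟩
    haveI := hWn
    refine ⟨W, hWn, hWp, fun a i ha => ?_⟩
    suffices hq : ¬ q ∣ W.index by
      have h1 : QuotientGroup.mk' W a = 1 := eq_one_of_two_kinds (q := q) (i := i)
        (by rw [← map_pow, ha, map_one]) ((((Fact.out : q.Prime).coprime_iff_not_dvd.2 hq).symm).coprime_dvd_left
          (_root_.orderOf_dvd_natCard _))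
      exact (QuotientGroup.eq_one_iff a).1 h1
    intro hq
    have hne : (⊤ : Subgroup (H ⧸ W)) ≠ ⊥ := fun e => by
      have h1 : Nat.card (⊤ : Subgroup (H ⧸ W)) = 1 := by rw [e]; exact Subgroup.card_bot
      rw [Subgroup.card_top] at h1
      have : W.index = 1 := h1
      rw [this, Nat.dvd_one] at hq
      exact (Fact.out : q.Prime).ne_one hq
    obtain ⟨M, -, hMn, hMb, hMmin⟩ := Cfsg.Lib.Coprime.exists_minimal_normal
      (inferInstance : (⊤ : Subgroup (H ⧸ W)).Normal) hne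
    haveI := hMn
    obtain ⟨-, r, hr, hMp, -⟩ := Cfsg.Lib.Coprime.minimal_normal_solvable (N := M) inferInstance hMb hMmin
    haveI := Fact.mk hr
    set R := M.comap (QuotientGroup.mk' W)
    haveI hRn : R.Normal := hMn.comap _
    have hWR : W ≤ R := fun x hx => by
      show QuotientGroup.mk' W x ∈ M
      rw [QuotientGroup.mk'_apply, (QuotientGroup.eq_one_iff x).2 hx]
      exact one_mem _
    have hWlt : W < R := lt_of_le_of_ne hWR fun e => hMb (by
      rw [← map_comap_eq_self_of_surjective (QuotientGroup.mk'_surjective W) M]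
      show R.map _ = ⊥
      rw [← e, QuotientGroup.map_mk'_self])
    have hrq : r ≠ q := by
      rintro rfl
      exact hmax R ⟨hRn, hMp.comap_of_ker_isPGroup _ (by rw [QuotientGroup.ker_mk']; exact hWp)⟩ hWlt
    have hR1 : W.relIndex R * R.index = W.index := relIndex_mul_index hWR
    have hr1 : ∃ n, W.relIndex R = r ^ n := by
      obtain ⟨n, hn⟩ := IsPGroup.iff_card.1 hMp
      refine ⟨n, ?_⟩
      rw [← hn, ← map_comap_eq_self_of_surjective (QuotientGroup.mk'_surjective W) M]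
      have := Subgroup.relIndex_ker R (QuotientGroup.mk' W)
      rw [QuotientGroup.ker_mk'] at this
      exact this
    obtain ⟨n, hn⟩ := hr1
    have hqR : q ∣ R.index := by
      rw [← hR1, hn] at hq
      exact ((Fact.out : q.Prime).dvd_mul.1 hq).resolve_left fun h =>
        hrq ((Nat.prime_dvd_prime_iff_eq (Fact.out : q.Prime) hr).1 ((Fact.out : q.Prime).dvd_of_dvd_pow h)).symm
    obtain ⟨R₀⟩ : Nonempty (Sylow r R) := inferInstance
    set N := normalizer (((R₀ : Subgroup R).map R.subtype : Subgroup H) : Set H)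
    have hsup : N ⊔ R = ⊤ := Sylow.normalizer_sup_eq_top R₀
    have hqN : q ∣ Nat.card N := by
      have h1 : R.index ∣ Nat.card N := by
        have h2 : R.relIndex N = R.index := by
          rw [← Subgroup.relIndex_sup_right, hsup, relIndex_top_right]
        rw [← h2]
        exact Subgroup.index_dvd_card _
      exact hqR.trans h1
    obtain ⟨d, hd⟩ := exists_prime_orderOf_dvd_card' (G := N) q hqN
    rw [← orderOf_coe] at hd
    refine hnorm' (d : H) 1 ((R₀ : Subgroup R).map R.subtype) ?_ ?_ ?_ ?_ fun x hx => (mem_normalizer_iff.1 d.2 x).1 hx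
    · intro e
      rw [e, orderOf_one] at hd
      exact (Fact.out : q.Prime).ne_one hd.symm
    · rw [pow_one, ← hd, pow_orderOf_eq_one]
    · intro e
      rw [Subgroup.map_eq_bot_iff, Subgroup.ker_subtype, le_bot_iff] at e
      refine R₀.ne_bot_of_dvd_card ?_ e
      rw [← (W.subgroupOf R).card_mul_index]
      refine dvd_mul_of_dvd_right ?_ _
      show r ∣ W.relIndex R
      rw [hn]
      refine dvd_pow_self r fun e0 => hWlt.ne ?_
      exact le_antisymm hWR (relIndex_eq_one.1 (by rw [hn, e0, pow_zero]))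
    · obtain ⟨k, hk⟩ := IsPGroup.iff_card.1 R₀.isPGroup'
      rw [card_map_of_injective R.subtype_injective, hk]
      exact ((Nat.coprime_primes hr (Fact.out : q.Prime)).2 hrq).pow_left k
  -- the kernel
  refine ⟨W.comap π, hWn.comap π, ?_, ?_, ?_, ?_, ?_⟩
  · exact fun x hx => by rw [mem_comap, (hπk x).2 (S.cent hx)]; exact one_mem _
  · exact fun x hx => by rw [mem_comap, (hπk x).2 hx]; exact one_mem _
  · exact fun g i hg => hWall _ i (by rw [← map_pow, hg, map_one])
  · intro k hk hkX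
    obtain ⟨a, b, hkab, ⟨i, ha⟩, hb⟩ := split q k
    have hb1 : π (k ^ b) = 1 := by
      obtain ⟨j, hj⟩ := hWp ⟨π (k ^ b), by rw [map_pow]; exact pow_mem (mem_comap.1 hk) b⟩
      exact eq_one_of_two_kinds (congrArg Subtype.val hj) (hb.coprime_dvd_left (orderOf_map_dvd π _))
    by_cases hb2 : k ^ b ∈ X₀
    · by_cases hb3 : k ^ b = 1
      · rw [hb3, mul_one] at hkab
        exact S.ordq k i hkX (by rw [hkab]; exact ha)
      · by_cases haX : k ^ a ∈ X₀
        · exact absurd (hkab ▸ X₀.mul_mem haX hb2) hkX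
        exfalso
        refine haX (S.comp_le _ hb2 hb3 (P.mem_of_order_ne hb3 ((Commute.refl k).pow_pow a b) fun e => haX ?_))
        rw [eq_one_of_two_kinds ha (e ▸ hb)]
        exact one_mem _
    · exfalso
      have h1 := S.order_cent ((hπk _).1 hb1) hb2
      rw [h1, Nat.coprime_self] at hb
      exact (Fact.out : q.Prime).ne_one hb
  · intro g hg k hk hkX hc
    obtain ⟨a, b, hgab, ⟨i, ha⟩, hb⟩ := split q g
    have hbK : π (g ^ b) ∉ W := fun hm => hg (by
      rw [mem_comap, hgab, map_mul]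
      exact W.mul_mem (hWall _ i (by rw [← map_pow, ha, map_one])) hm)
    obtain ⟨a', b', hkab, ⟨j, ha'⟩, hb'⟩ := split q k
    by_cases hka : k ^ a' ∈ X₀
    · have hkb : k ^ b' ∉ X₀ := fun hm => hkX (hkab ▸ X₀.mul_mem hka hm)
      have hb1 : π (k ^ b') = 1 := by
        obtain ⟨t, ht⟩ := hWp ⟨π (k ^ b'), by rw [map_pow]; exact pow_mem (mem_comap.1 hk) b'⟩
        exact eq_one_of_two_kinds (congrArg Subtype.val ht) (hb'.coprime_dvd_left (orderOf_map_dvd π _))
      have h1 := S.order_cent ((hπk _).1 hb1) hkb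
      rw [h1, Nat.coprime_self] at hb'
      exact (Fact.out : q.Prime).ne_one hb'
    · exact S.no_commute hka ha' (fun hm => hbK (by rw [(hπk _).2 hm]; exact one_mem _)) hb
        ((hc.pow_pow b a'))

end Setting

end Cfsg.Lib.Partitions
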