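import Cfsg.Agent.Partitions.Module

/-!
A group with a partition and a nontrivial solvable normal subgroup: it has a proper Hughes subgroup, or is a
Frobenius group, or is the symmetric group of degree four.
-/

set_option autoImplicit false
set_option linter.unusedSectionVars false
set_option linter.style.haveILetI false

namespace Cfsg.Lib.Partitions

open Subgroup

universe u

/-- The alternatives of the radical case. -/
abbrev Concl (G : Type u) [Group G] : Prop :=
  Nonempty (G ≃* Equiv.Perm (Fin 4)) ∨ (∃ p : ℕ, p.Prime ∧ Subgroup.closure {g : G | g ^ p ≠ 1} ≠ ⊤) ∨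
    (∃ H : Subgroup G, Cfsg.IsFrobeniusComplement H)

variable {G : Type u} [Group G] [Finite G] (P : Part G)

omit [Finite G] in
theorem hughes_of {p : ℕ} (hp : p.Prime) {X : Subgroup G} (hX : X ≠ ⊤) (h : ∀ g : G, g ∉ X → g ^ p = 1) :
    Concl G := by
  refine Or.inr (Or.inl ⟨p, hp, fun e => hX (top_le_iff.1 ?_)⟩)
  rw [← e, closure_le]
  intro g hg
  by_contra hgX
  exact hg (h g hgX)

include P in
/-- A group of prime power order with a partition has a proper Hughes subgroup. -/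
theorem pgroup {p : ℕ} [Fact p.Prime] (hG : IsPGroup p G) (hne : ∃ g : G, g ≠ 1) : Concl G := by
  obtain ⟨g₀, hg₀⟩ := hne
  haveI := hG.isNilpotent
  have h1 : (⊤ : Subgroup G) ⊓ center G ≠ ⊥ := Cfsg.Lib.Coprime.inf_center_ne_bot ⊤ fun e => hg₀ (by
    have : g₀ ∈ (⊥ : Subgroup G) := e ▸ mem_top g₀
    exact Subgroup.mem_bot.1 this)
  obtain ⟨c, hc, hc1⟩ := (bot_or_exists_ne_one _).resolve_left h1
  refine hughes_of (Fact.out : p.Prime) (P.ne_top c hc1) fun g hg => ?_
  have hg1 : g ≠ 1 := fun e => hg (e ▸ one_mem _)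
  obtain ⟨h2, h3⟩ := P.order_eq hg1 hc1 (mem_center_iff.1 hc.2 g) hg
  obtain ⟨k, hk⟩ := IsPGroup.iff_orderOf.1 hG g
  have h4 : orderOf g = p := (Nat.prime_dvd_prime_iff_eq h3 (Fact.out : p.Prime)).1 (h3.dvd_of_dvd_pow (dvd_of_eq hk))
  rw [← h4, pow_orderOf_eq_one]

/-- The central elements of exponent `q` of a normal subgroup. -/
def omegaCenter (X : Subgroup G) (q : ℕ) : Subgroup G where
  carrier := {v | v ∈ X ∧ (∀ x ∈ X, Commute v x) ∧ v ^ q = 1}
  one_mem' := ⟨one_mem _, fun x _ => Commute.one_left x, one_pow q⟩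
  mul_mem' := by
    rintro a b ⟨ha, hac, haq⟩ ⟨hb, hbc, hbq⟩
    exact ⟨X.mul_mem ha hb, fun x hx => (hac x hx).mul_left (hbc x hx), by rw [(hac b hb).mul_pow, haq, hbq, one_mul]⟩
  inv_mem' := by
    rintro a ⟨ha, hac, haq⟩
    exact ⟨X.inv_mem ha, fun x hx => (hac x hx).inv_left, by rw [inv_pow, haq, inv_one]⟩

theorem omegaCenter_ne_bot {X : Subgroup G} [Group.IsNilpotent X] {q : ℕ} [hq : Fact q.Prime]
    (hd : q ∣ Nat.card X) : omegaCenter X q ≠ ⊥ := by
  obtain ⟨Q⟩ : Nonempty (Sylow q X) := inferInstance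
  haveI : (Q : Subgroup X).Normal :=
    Q.normal_of_all_max_subgroups_normal fun K hK => (Group.normalizerCondition_of_isNilpotent (G := X)).normal_of_coatom K hK
  have hne := Cfsg.Lib.Coprime.inf_center_ne_bot (Q : Subgroup X) (Q.ne_bot_of_dvd_card hd)
  haveI : Nontrivial ↥((Q : Subgroup X) ⊓ center X) := (nontrivial_iff_ne_bot _).2 hne
  obtain ⟨n, hn⟩ := IsPGroup.iff_card.1 (Q.isPGroup'.to_le (inf_le_left : (Q : Subgroup X) ⊓ center X ≤ Q))
  obtain ⟨z, hz⟩ := exists_prime_orderOf_dvd_card' (G := ↥((Q : Subgroup X) ⊓ center X)) q (by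
    have := Finite.one_lt_card (α := ↥((Q : Subgroup X) ⊓ center X))
    rcases n with _ | n
    · rw [pow_zero] at hn; omega
    · rw [hn]; exact dvd_pow_self q (by omega))
  have hzo : orderOf ((z : X) : G) = q := by rw [orderOf_coe, orderOf_coe, hz]
  intro e
  have hm : ((z : X) : G) ∈ omegaCenter X q :=
    ⟨(z : X).2, fun x hx => (congrArg Subtype.val (mem_center_iff.1 z.2.2 ⟨x, hx⟩)).symm, orderOf_dvd_iff_pow_eq_one.1 hzo.dvd⟩
  rw [e, Subgroup.mem_bot] at hm
  rw [hm, orderOf_one] at hzo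
  exact hq.out.ne_one hzo.symm

/-- The setting attached to a normal component and a prime. -/
theorem setting_component {a : G} (ha : a ≠ 1) [(P.comp a).Normal] [Group.IsNilpotent (P.comp a)] {q : ℕ}
    [Fact q.Prime] (hd : q ∣ Nat.card (P.comp a)) :
    Setting P q (omegaCenter (P.comp a) q) (P.comp a) := by
  set X := P.comp a
  set V := omegaCenter X q
  have hVX : V ≤ X := fun v hv => hv.1
  have hVn : V.Normal := ⟨fun v hv g => by
    refine ⟨(inferInstance : X.Normal).conj_mem v hv.1 g, fun x hx => ?_, by rw [conj_pow, hv.2.2, mul_one, mul_inv_cancel]⟩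
    have h1 := hv.2.1 (g⁻¹ * x * g) (by simpa using (inferInstance : X.Normal).conj_mem x hx g⁻¹)
    show g * v * g⁻¹ * x = x * (g * v * g⁻¹)
    calc g * v * g⁻¹ * x = g * (v * (g⁻¹ * x * g)) * g⁻¹ := by group
      _ = g * ((g⁻¹ * x * g) * v) * g⁻¹ := by rw [h1.eq]
      _ = x * (g * v * g⁻¹) := by group⟩
  have hne : V ≠ ⊥ := omegaCenter_ne_bot hd
  have hcomp : ∀ x ∈ X, x ≠ 1 → P.comp x = X := fun x hx hx1 => P.eq a x ha hx hx1
  refine ⟨hVn, hne, fun x hx y hy => hx.2.1 y (hVX hy), fun x hx => hx.2.2,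
    fun x hx => mem_centralizer_iff.2 fun v hv => (hv.2.1 x hx).eq, fun x hx hx1 => (hcomp x hx hx1).le, ?_, ?_, ?_⟩
  · intro g hg hle
    obtain ⟨v, hv, hv1⟩ := (bot_or_exists_ne_one V).resolve_left hne
    have hg1 : g ≠ 1 := fun e => hg (e ▸ one_mem _)
    refine hg ?_
    rw [← hcomp v (hVX hv) hv1, P.eq g v hg1 (hle hv) hv1]
    exact P.mem g
  · intro g i hg hgi
    have hg1 : g ≠ 1 := fun e => hg (e ▸ one_mem _)
    set Q := V ⊔ zpowers g
    haveI := hVn
    have hQp : IsPGroup q ↥Q := by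
      refine IsPGroup.to_sup_of_normal_left ?_ ?_
      · exact fun v => ⟨1, Subtype.ext (by rw [pow_one]; exact v.2.2.2)⟩
      · rintro ⟨_, k, rfl⟩
        exact ⟨i, Subtype.ext (by
          show (g ^ k) ^ q ^ i = 1
          rw [← zpow_natCast (g ^ k), ← zpow_mul, mul_comm, zpow_mul, zpow_natCast, hgi, one_zpow])⟩
    haveI : Group.IsNilpotent ↥Q := hQp.isNilpotent
    have hVQ : V.subgroupOf Q ≠ ⊥ := fun e => hne (by
      rw [eq_bot_iff]
      intro v hv
      have : (⟨v, mem_sup_left hv⟩ : Q) ∈ V.subgroupOf Q := mem_subgroupOf.2 hv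
      rw [e, Subgroup.mem_bot] at this
      exact Subgroup.mem_bot.2 (congrArg Subtype.val this))
    obtain ⟨z, ⟨hzV, hzc⟩, hz1⟩ :=
      (bot_or_exists_ne_one _).resolve_left (Cfsg.Lib.Coprime.inf_center_ne_bot (V.subgroupOf Q) hVQ)
    have hz1' : (z : G) ≠ 1 := fun e => hz1 (Subtype.ext e)
    have hc : Commute g z := congrArg Subtype.val (mem_center_iff.1 hzc ⟨g, mem_sup_right (mem_zpowers g)⟩)
    obtain ⟨h1, -⟩ := P.order_eq hg1 hz1' hc (by rwa [hcomp _ (hVX (mem_subgroupOf.1 hzV)) hz1'])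
    rw [orderOf_eq_prime (mem_subgroupOf.1 hzV).2.2 hz1'] at h1
    rw [← h1, pow_orderOf_eq_one]
  · intro g hg hgq v hv
    haveI := hVn
    have hgX : g ∉ X := fun h => hg (mem_centralizer_iff.2 fun w hw => (hw.2.1 g h).eq)
    have h1 := mul_pow_conj V (fun x hx y hy => hx.2.1 y (hVX hy)) ⟨v, hv⟩ g q
    rw [hgq, mul_one] at h1
    exact P.out_pow ha q (h1 ▸ hVX (SetLike.coe_mem _)) fun h => hgX ((mul_mem_cancel_left (hVX hv)).1 h)

/-- The case of a normal component. -/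
theorem normal_component {a : G} (ha : a ≠ 1) [hn : (P.comp a).Normal] [Group.IsNilpotent (P.comp a)] : Concl G := by
  classical
  set X := P.comp a
  by_cases hf : ∀ g : G, g ∉ X → ∀ k ∈ X, Commute g k → k = 1
  · exact Or.inr (Or.inr (exists_complement X (P.comp_ne_bot ha) (P.ne_top a ha) hf))
  push Not at hf
  obtain ⟨y, hy, x, hx, hxy, hx1⟩ := hf
  have hy1 : y ≠ 1 := fun e => hy (e ▸ one_mem _)
  obtain ⟨hord, hprime⟩ := P.order_eq hy1 hx1 hxy (by rwa [P.eq a x ha hx hx1])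
  obtain ⟨q, hq⟩ : ∃ q, orderOf y = q := ⟨_, rfl⟩
  rw [hq] at hprime hord
  haveI := Fact.mk hprime
  have hd : q ∣ Nat.card X := hord ▸ Subgroup.orderOf_dvd_natCard X hx
  have S := setting_component P ha hd
  obtain ⟨K, hKn, hXK, hEK, hqK, hKq, hKfpf⟩ := S.exists_kernel hn
  haveI := hKn
  by_cases hKt : K = ⊤
  · exact hughes_of hprime (P.ne_top a ha) fun g hg => hKq g (hKt ▸ mem_top g) hg
  have hyK : y ∈ K := hqK y 1 (by rw [pow_one, ← hq, pow_orderOf_eq_one])
  refine Or.inr (Or.inr (exists_complement K ?_ hKt fun g hg k hk hc => ?_))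
  · exact fun e => P.comp_ne_bot ha (le_bot_iff.1 (e ▸ hXK))
  by_contra hk1
  by_cases hkX : k ∈ X
  swap
  · exact hKfpf g hg k hk hkX hc
  obtain ⟨e₁, e₂, hge, ⟨i, hi⟩, hco⟩ := split q g
  set g' := g ^ e₂
  have hg'K : g' ∉ K := fun hm => hg (hge ▸ K.mul_mem (hqK _ i hi) hm)
  have hg'X : g' ∉ X := fun hm => hg'K (hXK hm)
  have hg'1 : g' ≠ 1 := fun e => hg'X (e ▸ one_mem _)
  obtain ⟨hord', hr⟩ := P.order_eq hg'1 hk1 (hc.pow_left e₂) (by rwa [P.eq a k ha hkX hk1])
  obtain ⟨r, hr'⟩ : ∃ r, orderOf g' = r := ⟨_, rfl⟩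
  rw [hr'] at hr hord'
  have hrq : r ≠ q := fun e => by
    rw [hr', e, Nat.coprime_self] at hco
    exact hprime.ne_one hco
  haveI := Fact.mk hr
  have Sr := setting_component P ha (q := r) (hord' ▸ Subgroup.orderOf_dvd_natCard X hkX)
  obtain ⟨L, hLn, hXL, -, hrL, hLr, -⟩ := Sr.exists_kernel hn
  have hg'L : g' ∈ L := hrL g' 1 (by rw [pow_one, ← hr', pow_orderOf_eq_one])
  set c₀ := y * g' * y⁻¹ * g'⁻¹
  have hc0 : c₀ ∈ X := by
    by_contra h
    have h1 : c₀ ∈ K := by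
      rw [show c₀ = y * (g' * y⁻¹ * g'⁻¹) by simp only [c₀]; group]
      exact K.mul_mem hyK (hKn.conj_mem _ (K.inv_mem hyK) g')
    have h2 : c₀ ∈ L := L.mul_mem (hLn.conj_mem _ hg'L y) (L.inv_mem hg'L)
    have h3 : c₀ = 1 := eq_one_of_two_kinds (q := q) (i := 1) (by rw [pow_one]; exact hKq c₀ h1 h)
      (((Nat.coprime_primes hr hprime).2 hrq).coprime_dvd_left (orderOf_dvd_of_pow_eq_one (hLr c₀ h2 h)))
    exact h (h3 ▸ one_mem _)
  set π := QuotientGroup.mk' X
  have hπc : Commute (π y) (π g') := by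
    have h1 : π c₀ = 1 := (QuotientGroup.eq_one_iff _).2 hc0
    simp only [c₀, map_mul, map_inv, mul_inv_eq_one] at h1
    exact mul_inv_eq_iff_eq_mul.1 h1
  obtain ⟨a', b', hw, ⟨j, ha'⟩, hb'⟩ := split q (y * g')
  have e0 : π y * π g' = π ((y * g') ^ a') * π ((y * g') ^ b') := by rw [← map_mul, ← map_mul, ← hw]
  obtain ⟨ea, eb⟩ := split_unique e0
    (by rw [map_pow, map_mul]; exact ((Commute.refl _).mul_right hπc).pow_right _)
    (by rw [map_pow π (y * g') b', map_mul]; exact (hπc.symm.mul_right (Commute.refl _)).pow_right _)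
    (show π y ^ q ^ 1 = 1 by rw [pow_one, ← map_pow, ← hq, pow_orderOf_eq_one, map_one])
    (show π ((y * g') ^ a') ^ q ^ j = 1 by rw [← map_pow, ha', map_one])
    (hco.coprime_dvd_left (orderOf_map_dvd π g')) (hb'.coprime_dvd_left (orderOf_map_dvd π _))
  refine S.no_commute (c := (y * g') ^ a') (g := (y * g') ^ b') (i := j) ?_ ha' ?_ hb'
    ((Commute.refl _).pow_pow _ _)
  · intro hm
    exact hy ((QuotientGroup.eq_one_iff y).1 (ea.trans ((QuotientGroup.eq_one_iff _).2 hm)))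
  · intro hm
    have h1 : g'⁻¹ * (y * g') ^ b' ∈ X := QuotientGroup.eq.1 eb
    refine hg'K ?_
    have h2 := K.mul_mem (hEK hm) (K.inv_mem (hXK h1))
    simpa using h2

section NoComponent

variable {N : Subgroup G} [hNn : N.Normal] {p : ℕ} [hp : Fact p.Prime]
  (hab : ∀ a ∈ N, ∀ b ∈ N, Commute a b) (hexp : ∀ a ∈ N, a ^ p = 1) (hne : N ≠ ⊥)
  (hout : ∀ g : G, g ≠ 1 → ¬ N ≤ P.comp g)

include hexp hne in
/-- A component containing the big elements of a Sylow subgroup. -/
theorem exists_big (Q : Sylow p G) :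
    ∃ n ∈ N, n ≠ 1 ∧ N ≤ (Q : Subgroup G) ∧ ∀ h ∈ (Q : Subgroup G), h ^ p ≠ 1 → h ∈ P.comp n := by
  have hNp : IsPGroup p N := fun v => ⟨1, Subtype.ext (by rw [pow_one]; exact hexp v v.2)⟩
  have hNQ : N ≤ (Q : Subgroup G) := by
    have h1 := Q.is_maximal' (IsPGroup.to_sup_of_normal_left hNp Q.isPGroup') le_sup_right
    exact h1 ▸ le_sup_left
  haveI : Group.IsNilpotent ↥(Q : Subgroup G) := Q.isPGroup'.isNilpotent
  have hNQ' : N.subgroupOf (Q : Subgroup G) ≠ ⊥ := fun e => hne (by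
    rw [eq_bot_iff]
    intro v hv
    have : (⟨v, hNQ hv⟩ : (Q : Subgroup G)) ∈ N.subgroupOf (Q : Subgroup G) := mem_subgroupOf.2 hv
    rw [e, Subgroup.mem_bot] at this
    exact Subgroup.mem_bot.2 (congrArg Subtype.val this))
  obtain ⟨z, ⟨hzN, hzc⟩, hz1⟩ :=
    (bot_or_exists_ne_one _).resolve_left (Cfsg.Lib.Coprime.inf_center_ne_bot _ hNQ')
  have hz1' : (z : G) ≠ 1 := fun e => hz1 (Subtype.ext e)
  refine ⟨z, mem_subgroupOf.1 hzN, hz1', hNQ, fun h hh hhp => P.mem_of_order_ne hz1'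
    (congrArg Subtype.val (mem_center_iff.1 hzc ⟨h, hh⟩)) fun e => hhp ?_⟩
  rw [← orderOf_eq_prime (hexp _ (mem_subgroupOf.1 hzN)) hz1', ← e, pow_orderOf_eq_one]

include hab hexp hne hout in
/-- For odd `p` the elements of `p`-power order have order at most `p`. -/
theorem exponent_odd (hp2 : p ≠ 2) {g : G} {i : ℕ} (hg : g ^ p ^ i = 1) : g ^ p = 1 := by
  classical
  letI : CommGroup N := { (inferInstance : Group N) with mul_comm := fun a b => Subtype.ext (hab a a.2 b b.2).eq }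
  by_contra hgp
  have hgP : IsPGroup p (zpowers g) := by
    rintro ⟨_, k, rfl⟩
    exact ⟨i, Subtype.ext (by
      show (g ^ k) ^ p ^ i = 1
      rw [← zpow_natCast (g ^ k), ← zpow_mul, mul_comm, zpow_mul, zpow_natCast, hg, one_zpow])⟩
  obtain ⟨Q, hQ⟩ := hgP.exists_le_sylow
  obtain ⟨n, hnN, hn1, hNQ, hbig⟩ := exists_big P hexp hne Q
  have hgQ : g ∈ (Q : Subgroup G) := hQ (mem_zpowers g)
  set T := P.comp n
  have hgT : g ∈ T := hbig g hgQ hgp
  obtain ⟨m, hmN, hmT⟩ := SetLike.not_le_iff_exists.1 (hout n hn1)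
  have hm2 : m * m ∉ T := by
    intro h
    refine hmT ?_
    have hodd : p % 2 = 1 := (hp.out.eq_two_or_odd).resolve_left hp2
    have h1 : (m * m) ^ ((p + 1) / 2) = m := by
      rw [← pow_two, ← pow_mul, show 2 * ((p + 1) / 2) = p + 1 by omega, pow_succ, hexp m hmN, one_mul]
    exact h1 ▸ pow_mem h _
  have key : ∀ m' ∈ N, m' ∉ T → (m' * g) ^ p = 1 := by
    intro m' hm' hm'T
    by_contra h
    exact hm'T ((mul_mem_cancel_right hgT).1 (hbig _ (Q.mul_mem (hNQ hm') hgQ) h))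
  let φ : N → N := fun v => ∏ i ∈ Finset.range p, MulAut.conjNormal (g ^ i) v
  have hf : ∀ v : N, ((v : G) * g) ^ p = (φ v : G) * g ^ p := fun v => mul_pow_conj N hab v g p
  have hmul : φ (⟨m, hmN⟩ * ⟨m, hmN⟩) = φ ⟨m, hmN⟩ * φ ⟨m, hmN⟩ := by
    simp only [φ, map_mul, Finset.prod_mul_distrib]
  have e1 : (φ ⟨m, hmN⟩ : G) * g ^ p = 1 := by rw [← hf]; exact key m hmN hmT
  have e2 : ((φ (⟨m, hmN⟩ * ⟨m, hmN⟩) : N) : G) * g ^ p = 1 := by
    rw [← hf]; exact key _ (N.mul_mem hmN hmN) hm2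
  rw [hmul, Subgroup.coe_mul, mul_assoc, e1, mul_one] at e2
  rw [e2, one_mul] at e1
  exact hgp e1

include hab hexp hne hout in
/-- The setting for a normal elementary abelian subgroup in no component. -/
theorem setting_bottom (hord : ∀ (g : G) (i : ℕ), g ^ p ^ i = 1 → g ∉ centralizer (N : Set G) → g ^ p = 1)
    (hnorm : ∀ g : G, g ∉ centralizer (N : Set G) → g ^ p = 1 → ∀ v ∈ N, (v * g) ^ p = 1) :
    Setting P p N ⊥ := by
  refine ⟨hNn, hne, hab, hexp, bot_le, fun x hx hx1 => absurd (Subgroup.mem_bot.1 hx) hx1,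
    fun g hg => hout g (fun e => hg (Subgroup.mem_bot.2 e)), fun g i hg hgi => ?_, hnorm⟩
  by_cases hgE : g ∈ centralizer (N : Set G)
  · obtain ⟨v, hv, hvg⟩ := SetLike.not_le_iff_exists.1 (hout g fun e => hg (Subgroup.mem_bot.2 e))
    have hv1 : v ≠ 1 := fun e => hvg (e ▸ one_mem _)
    have h1 := (P.order_eq hv1 (fun e => hg (Subgroup.mem_bot.2 e)) (mem_centralizer_iff.1 hgE v hv) hvg).1
    rw [orderOf_eq_prime (hexp v hv) hv1] at h1
    rw [h1, pow_orderOf_eq_one]
  · exact hord g i hgi hgE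

include hne in
/-- The conclusion from the setting. -/
theorem of_setting (S : Setting P p N ⊥) : Concl G := by
  obtain ⟨K, hKn, -, hEK, -, hKq, hKfpf⟩ := S.exists_kernel inferInstance
  haveI := hKn
  have hNK : N ≤ K := S.le_cent.trans hEK
  by_cases hKt : K = ⊤
  · refine hughes_of hp.out (X := ⊥) ?_ fun g hg => hKq g (hKt ▸ mem_top g) hg
    intro e
    exact hne (le_bot_iff.1 (e ▸ (le_top : N ≤ ⊤)))
  · refine Or.inr (Or.inr (exists_complement K (fun e => hne (le_bot_iff.1 (e ▸ hNK))) hKt fun g hg k hk hc => ?_))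
    by_contra hk1
    exact hKfpf g hg k hk (fun h => hk1 (Subgroup.mem_bot.1 h)) hc

include hab hexp hne hout in
theorem odd_prime (hp2 : p ≠ 2) : Concl G := by
  refine of_setting P hne (setting_bottom P hab hexp hne hout
    (fun g i hg _ => exponent_odd P hab hexp hne hout hp2 hg) fun g _ hgp v hv => ?_)
  have h1 := mul_pow_conj N hab ⟨v, hv⟩ g p
  rw [hgp, mul_one] at h1
  refine exponent_odd P hab hexp hne hout hp2 (i := 2) ?_
  rw [pow_two, pow_mul, h1]
  exact hexp _ (SetLike.coe_mem _)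

end NoComponent

/-- A group of order 24 with four Sylow 3-subgroups and a trivial core of their normalisers. -/
theorem iso_perm_four {N : Subgroup G} [N.Normal] (h4 : Nat.card N = 4) (hG : Nat.card G = 24)
    (hC : centralizer (N : Set G) = N)
    (hfpf : ∀ z : G, orderOf z = 3 → ∀ v ∈ N, Commute z v → v = 1) :
    Nonempty (G ≃* Equiv.Perm (Fin 4)) := by
  classical
  haveI : Fact (Nat.Prime 3) := ⟨Nat.prime_three⟩
  obtain ⟨z, hz⟩ := exists_prime_orderOf_dvd_card' (G := G) 3 (by rw [hG]; norm_num)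
  have hcard : ∀ R : Sylow 3 G, Nat.card (R : Subgroup G) = 3 := fun R => by
    rw [R.card_eq_multiplicity, hG, Nat.factorization_def _ Nat.prime_three,
      show (24 : ℕ) = 3 * 8 by norm_num, padicValNat.mul (by norm_num) (by norm_num),
      padicValNat.self (by norm_num), padicValNat.eq_zero_of_not_dvd (by norm_num : ¬ 3 ∣ 8), add_zero, pow_one]
  have hcop : ∀ R : Sylow 3 G, Disjoint N (R : Subgroup G) := fun R =>
    disjoint_iff.2 (inf_eq_bot_of_coprime (by rw [h4, hcard]; norm_num))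
  -- no normal Sylow subgroup
  have hnn : ∀ R : Sylow 3 G, ¬ (R : Subgroup G).Normal := by
    intro R hR
    haveI := hR
    obtain ⟨r, hr, hr1⟩ := (bot_or_exists_ne_one (R : Subgroup G)).resolve_left
      (R.ne_bot_of_dvd_card (by rw [hG]; norm_num))
    have hro : orderOf r = 3 :=
      ((Nat.dvd_prime Nat.prime_three).1 (hcard R ▸ Subgroup.orderOf_dvd_natCard _ hr)).resolve_left
        fun e => hr1 (orderOf_eq_one_iff.1 e)
    obtain ⟨v, hv, hv1⟩ := (bot_or_exists_ne_one N).resolve_left fun e => by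
      rw [e, Subgroup.card_bot] at h4; omega
    exact hv1 (hfpf r hro v hv
      (Subgroup.commute_of_normal_of_disjoint N (R : Subgroup G) inferInstance hR (hcop R) v r hv hr).symm)
  -- four Sylow subgroups
  obtain ⟨R⟩ : Nonempty (Sylow 3 G) := inferInstance
  have hidx : Nat.card (Sylow 3 G) ∣ 8 := by
    have h1 := R.card_dvd_index
    have h2 := (R : Subgroup G).card_mul_index
    rw [hcard R, hG] at h2
    rwa [show (R : Subgroup G).index = 8 by omega] at h1
  have h4S : Nat.card (Sylow 3 G) = 4 := by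
    have hne : Nat.card (Sylow 3 G) ≠ 1 := fun e => hnn R (by
      haveI : Subsingleton (Sylow 3 G) := (Nat.card_eq_one_iff_unique.1 e).1
      exact R.normal_of_subsingleton)
    have hle : Nat.card (Sylow 3 G) ≤ 8 := Nat.le_of_dvd (by norm_num) hidx
    have hmod : Nat.card (Sylow 3 G) % 3 = 1 := card_sylow_modEq_one 3 G
    interval_cases hn : Nat.card (Sylow 3 G) <;> omega
  let f : G →* Equiv.Perm (Sylow 3 G) := MulAction.toPermHom G (Sylow 3 G)
  have hf : Function.Injective f := by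
    rw [← MonoidHom.ker_eq_bot_iff, eq_bot_iff]
    intro g hg
    have hgn : ∀ R : Sylow 3 G, g ∈ normalizer ((R : Subgroup G) : Set G) := fun R =>
      Sylow.smul_eq_iff_mem_normalizer.1 (DFunLike.congr_fun (MonoidHom.mem_ker.1 hg) R)
    have hkn : f.ker.Normal := inferInstance
    have hker6 : Nat.card f.ker ∣ 6 := by
      have h1 : Nat.card f.ker ∣ Nat.card (normalizer ((R : Subgroup G) : Set G)) :=
        Subgroup.card_dvd_of_le fun x hx =>
          Sylow.smul_eq_iff_mem_normalizer.1 (DFunLike.congr_fun (MonoidHom.mem_ker.1 hx) R)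
      have h2 := Subgroup.card_mul_index (normalizer ((R : Subgroup G) : Set G))
      have h5 : (normalizer ((R : Subgroup G) : Set G)).index = 4 :=
        R.card_eq_index_normalizer.symm.trans h4S
      rw [h5, hG] at h2
      rwa [show Nat.card (normalizer ((R : Subgroup G) : Set G)) = 6 by omega] at h1
    have h3 : ¬ 3 ∣ Nat.card f.ker := by
      intro h3
      obtain ⟨r, hr⟩ := exists_prime_orderOf_dvd_card' (G := f.ker) 3 h3
      rw [← orderOf_coe] at hr
      obtain ⟨R', hR'⟩ := (IsPGroup.of_card (p := 3) (n := 1) (G := zpowers (r : G))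
        (by rw [Nat.card_zpowers, hr, pow_one])).exists_le_sylow
      have he : zpowers (r : G) = (R' : Subgroup G) :=
        eq_of_le_of_card_ge hR' (by rw [hcard R', Nat.card_zpowers, hr])
      have hall : ∀ R'' : Sylow 3 G, R'' = R' := by
        intro R''
        obtain ⟨c, hc⟩ := MulAction.exists_smul_eq G R' R''
        refine Sylow.ext (le_antisymm ?_ ?_)
        all_goals
          have hsub : zpowers (r : G) ≤ (R'' : Subgroup G) := by
            have hrn : (r : G) ∈ normalizer ((R'' : Subgroup G) : Set G) :=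
              Sylow.smul_eq_iff_mem_normalizer.1 (DFunLike.congr_fun (MonoidHom.mem_ker.1 r.2) R'')
            exact (R''.is_maximal' (IsPGroup.to_sup_of_normal_right' (IsPGroup.of_card (p := 3) (n := 1)
              (G := zpowers (r : G)) (by rw [Nat.card_zpowers, hr, pow_one])) R''.isPGroup' (zpowers_le.2 hrn))
              le_sup_right) ▸ le_sup_left
          have heq : (R' : Subgroup G) = (R'' : Subgroup G) :=
            he ▸ eq_of_le_of_card_ge hsub (by rw [hcard R'', Nat.card_zpowers, hr])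
          rw [heq]
      haveI : Subsingleton (Sylow 3 G) := ⟨fun a b => (hall a).trans (hall b).symm⟩
      exact hnn R R.normal_of_subsingleton
    have hker2 : Nat.card f.ker ∣ 2 := by
      refine (Nat.Coprime.dvd_of_dvd_mul_left ((Nat.prime_three.coprime_iff_not_dvd.2 h3).symm) ?_)
      exact hker6
    have h2 : Nat.card f.ker = 1 := by
      rcases (Nat.dvd_prime Nat.prime_two).1 hker2 with h | h
      · exact h
      exfalso
      obtain ⟨c, hc⟩ := exists_prime_orderOf_dvd_card' (G := f.ker) 2 (h ▸ dvd_rfl)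
      have hc1 : (c : G) ≠ 1 := fun e => by
        rw [← orderOf_coe, e, orderOf_one] at hc; omega
      have hcen : ∀ x : G, Commute x (c : G) := by
        intro x
        obtain ⟨u, v, huv, hall⟩ := Nat.card_eq_two_iff.1 h
        have h1 : (⟨x * c * x⁻¹, hkn.conj_mem _ c.2 x⟩ : f.ker) ≠ 1 := fun e => hc1 (by
          have := congrArg Subtype.val e
          simpa using this)
        have h2 : c ≠ 1 := fun e => hc1 (by rw [e]; rfl)
        have hmem : ∀ w : f.ker, w ≠ 1 → w = c := by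
          intro w hw
          have hw' : w ∈ ({u, v} : Set f.ker) := hall ▸ Set.mem_univ w
          have hc' : c ∈ ({u, v} : Set f.ker) := hall ▸ Set.mem_univ c
          have h1' : (1 : f.ker) ∈ ({u, v} : Set f.ker) := hall ▸ Set.mem_univ (1 : f.ker)
          rcases hw' with rfl | rfl <;> rcases hc' with rfl | rfl <;> rcases h1' with h | h <;>
            first
              | rfl
              | exact absurd h.symm hw
              | exact absurd h.symm h2
        exact mul_inv_eq_iff_eq_mul.1 (congrArg Subtype.val (hmem _ h1))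
      have hcN : (c : G) ∈ N := hC ▸ mem_centralizer_iff.2 fun v _ => (hcen v).eq
      exact hc1 (hfpf z hz c hcN (hcen z))
    have h3' := (Nat.card_eq_one_iff_unique.1 h2).1
    exact Subgroup.mem_bot.2 (congrArg Subtype.val (@Subsingleton.elim _ h3' ⟨g, hg⟩ 1))
  have hb : Function.Bijective f := by
    refine (Nat.bijective_iff_injective_and_card f).2 ⟨hf, ?_⟩
    rw [hG, Nat.card_perm, h4S]
    rfl
  haveI := Fintype.ofFinite (Sylow 3 G)
  exact ⟨(MulEquiv.ofBijective f hb).trans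
    (Equiv.permCongrHom (Fintype.equivFinOfCardEq (by rw [← Nat.card_eq_fintype_card, h4S])))⟩

section Two

variable {N : Subgroup G} [hNn : N.Normal] (hab : ∀ a ∈ N, ∀ b ∈ N, Commute a b)
  (hexp : ∀ a ∈ N, a ^ 2 = 1) (hne : N ≠ ⊥) (hout : ∀ g : G, g ≠ 1 → ¬ N ≤ P.comp g)
  (hcent : centralizer (N : Set G) = N)

include hexp in
theorem inv_N {a : G} (ha : a ∈ N) : a⁻¹ = a :=
  inv_eq_of_mul_eq_one_right (by rw [← pow_two]; exact hexp a ha)

include hab hexp hne hout hcent in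
/-- Elements of a Sylow 2-subgroup outside `N` are transvections with a common axis. -/
theorem transvection (Q : Sylow 2 G) : ∃ K : Subgroup G, ∀ h ∈ (Q : Subgroup G), h ∉ N →
    h * h ∈ N ∧ (∀ m : G, m ∈ N ∧ Commute m h ↔ m ∈ K) ∧ (∀ d ∈ N, ∀ d' ∈ N, d ∉ K → d' ∉ K → d⁻¹ * d' ∈ K) := by
  classical
  obtain ⟨n, hnN, hn1, hNQ, hbig⟩ := exists_big P hexp hne Q
  set T := P.comp n
  refine ⟨N ⊓ T, fun h hh hhN => ?_⟩
  obtain ⟨e, heN, heT⟩ := SetLike.not_le_iff_exists.1 (hout n hn1)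
  have hT : ∀ m ∈ N, (m * h) * (m * h) ≠ 1 → m * h ∈ T := fun m hm hne1 =>
    hbig _ (Q.mul_mem (hNQ hm) hh) (by rwa [pow_two])
  have hsq : ∀ m : G, m * h * (m * h) = m * (h * m * h⁻¹) * (h * h) := fun m => by group
  have hfN : ∀ m ∈ N, m * (h * m * h⁻¹) ∈ N := fun m hm => N.mul_mem hm (hNn.conj_mem m hm h)
  have hhh : h * h ∈ N := by
    by_contra hc
    have hall : ∀ m ∈ N, m * h ∈ T := fun m hm => hT m hm fun e1 => hc (by
      rw [hsq] at e1
      exact (mul_eq_one_iff_eq_inv'.1 e1) ▸ N.inv_mem (hfN m hm))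
    have h1 := hall 1 N.one_mem
    rw [one_mul] at h1
    exact heT ((mul_mem_cancel_right h1).1 (hall e heN))
  have hker : ∀ m ∈ N, (m * (h * m * h⁻¹) = 1 ↔ Commute m h) := by
    intro m hm
    rw [mul_eq_one_iff_inv_eq, inv_N hexp hm]
    exact ⟨fun e1 => (mul_inv_eq_iff_eq_mul.1 e1.symm).symm,
      fun e1 => by rw [← e1.eq, mul_inv_cancel_right]⟩
  obtain ⟨m₀, hm₀, hm₀h⟩ : ∃ m ∈ N, ¬ Commute m h := by
    by_contra hall
    push Not at hall
    exact hhN (hcent ▸ mem_centralizer_iff.2 fun m hm => (hall m hm).eq)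
  have hfmul : ∀ a ∈ N, ∀ b ∈ N, a * b * (h * (a * b) * h⁻¹) = a * (h * a * h⁻¹) * (b * (h * b * h⁻¹)) := by
    intro a ha b hb
    have h1 : Commute b (h * a * h⁻¹) := hab b hb _ (hNn.conj_mem a ha h)
    calc a * b * (h * (a * b) * h⁻¹) = a * (b * (h * a * h⁻¹)) * (h * b * h⁻¹) := by group
      _ = a * ((h * a * h⁻¹) * b) * (h * b * h⁻¹) := by rw [h1.eq]
      _ = _ := by group
  have hCT : ∀ c ∈ N, Commute c h → c ∈ T := by
    intro c hc hch
    obtain ⟨a, ha, hab1⟩ : ∃ a ∈ N, a * (h * a * h⁻¹) * (h * h) ≠ 1 := by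
      by_contra hall
      push Not at hall
      have h1 := hall 1 N.one_mem
      rw [show (1 : G) * (h * 1 * h⁻¹) = 1 by group, one_mul] at h1
      have h2 := hall m₀ hm₀
      rw [h1, mul_one] at h2
      exact hm₀h ((hker m₀ hm₀).1 h2)
    have h1 := hT a ha (by rwa [hsq])
    have h2 := hT (c * a) (N.mul_mem hc ha) (by rwa [hsq, hfmul c hc a ha, (hker c hc).2 hch, one_mul])
    rw [mul_assoc] at h2
    exact (mul_mem_cancel_right h1).1 h2
  -- at most two values
  have hval : ∀ d ∈ N, ∀ d' ∈ N, ¬ Commute d h → ¬ Commute d' h → Commute (d⁻¹ * d') h := by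
    intro d hd d' hd' hdh hd'h
    rw [← hker _ (N.mul_mem (N.inv_mem hd) hd'), inv_N hexp hd, hfmul d hd d' hd']
    by_contra hne3
    refine heT ?_
    set fe := e * (h * e * h⁻¹)
    set b := (h * h)⁻¹
    -- a shift avoiding two values
    obtain ⟨m, hm, hm1, hm2⟩ : ∃ m ∈ N, m * (h * m * h⁻¹) ≠ b ∧ m * (h * m * h⁻¹) * fe ≠ b := by
      by_contra hall
      push Not at hall
      have hd1 : d * (h * d * h⁻¹) ≠ 1 := fun e1 => hdh ((hker d hd).1 e1)
      have hd1' : d' * (h * d' * h⁻¹) ≠ 1 := fun e1 => hd'h ((hker d' hd').1 e1)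
      have hdd : d * (h * d * h⁻¹) ≠ d' * (h * d' * h⁻¹) := fun e1 => hne3 (by
        rw [e1, ← pow_two]; exact hexp _ (hfN d' hd'))
      have hv : ∀ m ∈ N, m * (h * m * h⁻¹) = b ∨ m * (h * m * h⁻¹) = b * fe⁻¹ := fun m hm => by
        by_cases h1 : m * (h * m * h⁻¹) = b
        · exact Or.inl h1
        · exact Or.inr (eq_mul_inv_of_mul_eq (hall m hm h1))
      have h0 := hv 1 N.one_mem
      rw [show (1 : G) * (h * 1 * h⁻¹) = 1 by group] at h0
      rcases h0 with h0 | h0 <;> rcases hv d hd with h1 | h1 <;> rcases hv d' hd' with h2 | h2 <;>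
        first
          | exact hd1 (h1.trans h0.symm)
          | exact hd1' (h2.trans h0.symm)
          | exact hdd (h1.trans h2.symm)
    have h1 := hT m hm fun e1 => hm1 (eq_inv_of_mul_eq_one_left (by rwa [hsq] at e1))
    have h2 := hT (m * e) (N.mul_mem hm heN) fun e1 => hm2 (eq_inv_of_mul_eq_one_left (by
      rwa [hsq, hfmul m hm e heN] at e1))
    rw [(hab m hm e heN).eq, mul_assoc] at h2
    exact (mul_mem_cancel_right h1).1 h2
  have hKC : ∀ m : G, m ∈ N ∧ Commute m h ↔ m ∈ N ⊓ T := by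
    refine fun m => ⟨fun hm => ⟨hm.1, hCT m hm.1 hm.2⟩, fun hm => ⟨hm.1, ?_⟩⟩
    by_contra hmc
    refine heT ?_
    by_cases hec : Commute e h
    · exact hCT e heN hec
    · have h1 := T.mul_mem hm.2 (hCT _ (N.mul_mem (N.inv_mem hm.1) heN) (hval m hm.1 e heN hmc hec))
      rwa [mul_inv_cancel_left] at h1
  refine ⟨hhh, hKC, fun d hd d' hd' hdK hd'K => (hKC _).1 ⟨N.mul_mem (N.inv_mem hd) hd',
    hval d hd d' hd' (fun h1 => hdK ((hKC d).1 ⟨hd, h1⟩)) (fun h1 => hd'K ((hKC d').1 ⟨hd', h1⟩))⟩⟩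

include hab hexp hne hout hcent in
theorem prime_two : Concl G := by
  classical
  haveI : Fact (Nat.Prime 2) := ⟨Nat.prime_two⟩
  have hfpf : ∀ z : G, z ≠ 1 → (orderOf z).Coprime 2 → ∀ v ∈ N, Commute z v → v = 1 := fun z hz hzc v hv hc =>
    fixed_trivial hNn hab hexp hz (hout z hz) hzc hv hc
  by_cases h2G : IsPGroup 2 G
  · obtain ⟨v, hv, hv1⟩ := (bot_or_exists_ne_one N).resolve_left hne
    exact pgroup P h2G ⟨v, hv1⟩
  -- 2-elements
  set U : Set G := {g | ∃ i : ℕ, g ^ 2 ^ i = 1}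
  by_cases hUN : ∀ g ∈ U, g ∈ N
  · refine of_setting P hne (setting_bottom P hab hexp hne hout (fun g i hg hgE => ?_) fun g hgE hg2 => ?_)
    · exact absurd (by rw [hcent]; exact hUN g ⟨i, hg⟩) hgE
    · exact absurd (by rw [hcent]; exact hUN g ⟨1, by rwa [pow_one]⟩) hgE
  push Not at hUN
  obtain ⟨u, hu, huN⟩ := hUN
  have hsyl : ∀ g ∈ U, ∃ Q : Sylow 2 G, g ∈ (Q : Subgroup G) := by
    rintro g ⟨i, hi⟩
    obtain ⟨Q, hQ⟩ := IsPGroup.exists_le_sylow (p := 2) (P := zpowers g) (by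
      rintro ⟨_, k, rfl⟩
      exact ⟨i, Subtype.ext (by
        show (g ^ k) ^ 2 ^ i = 1
        rw [← zpow_natCast (g ^ k), ← zpow_mul, mul_comm, zpow_mul, zpow_natCast, hi, one_zpow])⟩)
    exact ⟨Q, hQ (mem_zpowers g)⟩
  by_cases hclosed : ∀ a ∈ U, ∀ b ∈ U, a * b ∈ U
  · -- a normal Sylow 2-subgroup
    exfalso
    let W : Subgroup G :=
      { carrier := U
        one_mem' := ⟨0, one_pow _⟩
        mul_mem' := fun ha hb => hclosed _ ha _ hb
        inv_mem' := by
          rintro a ⟨i, hi⟩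
          exact ⟨i, by rw [inv_pow, hi, inv_one]⟩ }
    have hWn : W.Normal := ⟨fun w hw g => by
      obtain ⟨i, hi⟩ := hw
      exact ⟨i, by rw [conj_pow, hi, mul_one, mul_inv_cancel]⟩⟩
    have hWp : IsPGroup 2 W := fun w => by
      obtain ⟨i, hi⟩ := w.2
      exact ⟨i, Subtype.ext hi⟩
    obtain ⟨Q⟩ : Nonempty (Sylow 2 G) := inferInstance
    have hWQ : W ≤ (Q : Subgroup G) := by
      haveI := hWn
      exact (Q.is_maximal' (IsPGroup.to_sup_of_normal_left hWp Q.isPGroup') le_sup_right) ▸ le_sup_left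
    obtain ⟨K, hK⟩ := transvection P hab hexp hne hout hcent Q
    obtain ⟨-, hKC, hKtwo⟩ := hK u (hWQ hu) huN
    -- the axis is normal
    have hKn : ∀ g : G, ∀ m ∈ K, g * m * g⁻¹ ∈ K := by
      intro g m hm
      have hu'W : g⁻¹ * u * g ∈ W := by simpa using hWn.conj_mem u hu g⁻¹
      have hu'N : g⁻¹ * u * g ∉ N := fun h => huN (by
        have h1 := hNn.conj_mem _ h g
        rwa [show g * (g⁻¹ * u * g) * g⁻¹ = u by group] at h1)
      obtain ⟨-, hKC', -⟩ := hK _ (hWQ hu'W) hu'N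
      obtain ⟨hmN, hmc⟩ := (hKC' m).2 hm
      refine (hKC _).1 ⟨hNn.conj_mem m hmN g, ?_⟩
      show g * m * g⁻¹ * u = u * (g * m * g⁻¹)
      calc g * m * g⁻¹ * u = g * (m * (g⁻¹ * u * g)) * g⁻¹ := by group
        _ = g * ((g⁻¹ * u * g) * m) * g⁻¹ := by rw [hmc.eq]
        _ = u * (g * m * g⁻¹) := by group
    obtain ⟨d, hd, hdK⟩ : ∃ d ∈ N, d ∉ K := by
      by_contra hall
      push Not at hall
      exact huN (hcent ▸ mem_centralizer_iff.2 fun m hm => ((hKC m).2 (hall m hm)).2.eq)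
    obtain ⟨z, hz1, hzc⟩ : ∃ z : G, z ≠ 1 ∧ (orderOf z).Coprime 2 := by
      by_contra hall
      push Not at hall
      have htop : ∀ g : G, g ∈ W := fun g => by
        obtain ⟨k, l, hkl, hk, hl⟩ := split 2 g
        have hl1 : g ^ l = 1 := by
          by_contra h1
          exact hall _ h1 hl
        rw [hl1, mul_one] at hkl
        exact hkl ▸ hk
      refine h2G fun g => ?_
      obtain ⟨i, hi⟩ := htop g
      exact ⟨i, hi⟩
    have hinj : Function.Injective fun m : N => (⟨(m : G)⁻¹ * (z * m * z⁻¹),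
        N.mul_mem (N.inv_mem m.2) (hNn.conj_mem _ m.2 z)⟩ : N) := by
      intro a b e
      have e' : (a : G)⁻¹ * (z * a * z⁻¹) = (b : G)⁻¹ * (z * b * z⁻¹) := congrArg Subtype.val e
      have hba : Commute ((a : G)) ((b : G))⁻¹ := (hab a a.2 b b.2).inv_right
      have h1 : Commute z ((a : G) * (b : G)⁻¹) := by
        show z * ((a : G) * (b : G)⁻¹) = (a : G) * (b : G)⁻¹ * z
        calc z * ((a : G) * (b : G)⁻¹) = (a : G) * ((a : G)⁻¹ * (z * a * z⁻¹)) * (z * (b : G)⁻¹ * z⁻¹) * z := by group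
          _ = (a : G) * ((b : G)⁻¹ * (z * b * z⁻¹)) * (z * (b : G)⁻¹ * z⁻¹) * z := by rw [e']
          _ = (a : G) * (b : G)⁻¹ * z := by group
      exact Subtype.ext (mul_inv_eq_one.1 (hfpf z hz1 hzc _ (N.mul_mem a.2 (N.inv_mem b.2)) h1))
    obtain ⟨⟨m, hm⟩, e⟩ := (Finite.injective_iff_surjective.1 hinj) ⟨d, hd⟩
    have e' : m⁻¹ * (z * m * z⁻¹) = d := congrArg Subtype.val e
    refine hdK ?_
    rw [← e']
    by_cases hmK : m ∈ K
    · exact K.mul_mem (K.inv_mem hmK) (hKn z m hmK)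
    · refine hKtwo m hm _ (hNn.conj_mem m hm z) hmK fun h => hmK ?_
      have h1 := hKn z⁻¹ _ h
      rwa [show z⁻¹ * (z * m * z⁻¹) * z⁻¹⁻¹ = m by group] at h1
  -- two transvections generating an element of odd order
  push Not at hclosed
  obtain ⟨a, ha, b, hb, hab'⟩ := hclosed
  obtain ⟨k, l, hkl, hk, hl⟩ := split 2 (a * b)
  have hz1 : (a * b) ^ l ≠ 1 := fun e => hab' (by rw [hkl, e, mul_one]; exact hk)
  have habN : a * b ∉ N := fun h => hab' ⟨1, by rw [pow_one]; exact hexp _ h⟩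
  have hcut : ∀ {x : G}, x ∈ U → x ∉ N → ∃ K : Subgroup G, (∀ m : G, m ∈ N ∧ Commute m x ↔ m ∈ K) ∧
      (∀ d ∈ N, ∀ d' ∈ N, d ∉ K → d' ∉ K → d⁻¹ * d' ∈ K) := fun hx hxN => by
    obtain ⟨Q, hQ⟩ := hsyl _ hx
    obtain ⟨K, hK⟩ := transvection P hab hexp hne hout hcent Q
    exact ⟨K, (hK _ hQ hxN).2⟩
  have haN : a ∉ N := fun h => hab' (by
    obtain ⟨Q, hQ⟩ := hsyl b hb
    obtain ⟨-, -, -, hNQ, -⟩ := exists_big P hexp hne Q
    obtain ⟨i, hi⟩ := Q.isPGroup' ⟨a * b, (Q : Subgroup G).mul_mem (hNQ h) hQ⟩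
    exact ⟨i, congrArg Subtype.val hi⟩)
  have hbN : b ∉ N := fun h => hab' (by
    obtain ⟨Q, hQ⟩ := hsyl a ha
    obtain ⟨-, -, -, hNQ, -⟩ := exists_big P hexp hne Q
    obtain ⟨i, hi⟩ := Q.isPGroup' ⟨a * b, (Q : Subgroup G).mul_mem hQ (hNQ h)⟩
    exact ⟨i, congrArg Subtype.val hi⟩)
  obtain ⟨A, hA, hA2⟩ := hcut ha haN
  obtain ⟨B, hB, hB2⟩ := hcut hb hbN
  have hAB : ∀ m ∈ A, m ∈ B → m = 1 := fun m hmA hmB => by
    obtain ⟨hmN, hma⟩ := (hA m).2 hmA
    exact hfpf _ hz1 hl m hmN (((hma.mul_right ((hB m).2 hmB).2).pow_right l).symm)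
  have hAN : A ≤ N := fun m hm => ((hA m).2 hm).1
  have hBN : B ≤ N := fun m hm => ((hB m).2 hm).1
  -- the order is four
  have hsmall : ∀ (C D : Subgroup G), C ≤ N → (∀ d ∈ N, ∀ d' ∈ N, d ∉ D → d' ∉ D → d⁻¹ * d' ∈ D) →
      (∀ m ∈ C, m ∈ D → m = 1) → Nat.card C ≤ 2 := by
    intro C D hC hD hCD
    by_contra hlt
    obtain ⟨x, y, z', hxy, hxz, hyz⟩ := (by
      haveI := Fintype.ofFinite C
      exact (Fintype.two_lt_card_iff (α := C)).1 (by rw [← Nat.card_eq_fintype_card]; exact Nat.not_le.1 hlt))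
    have hsame : ∀ v w : C, v ≠ 1 → w ≠ 1 → v = w := fun v w hv hw => by
      have h1 : (v : G)⁻¹ * w = 1 := hCD _ (C.mul_mem (C.inv_mem v.2) w.2)
        (hD v (hC v.2) w (hC w.2) (fun h => hv (Subtype.ext (hCD v v.2 h))) (fun h => hw (Subtype.ext (hCD w w.2 h))))
      exact Subtype.ext (inv_mul_eq_one.1 h1)
    by_cases hx1 : x = 1
    · subst hx1; exact hyz (hsame y z' hxy.symm hxz.symm)
    · by_cases hy1 : y = 1
      · subst hy1; exact hxz (hsame x z' hx1 hyz.symm)
      · exact hxy (hsame x y hx1 hy1)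
  have hA4 : Nat.card A ≤ 2 := hsmall A B hAN hB2 hAB
  obtain ⟨d, hd, hdA⟩ : ∃ d ∈ N, d ∉ A := by
    by_contra hall
    push Not at hall
    exact haN (hcent ▸ mem_centralizer_iff.2 fun m hm => ((hA m).2 (hall m hm)).2.eq)
  have hN4 : Nat.card N = 4 := by
    have hle : Nat.card N ≤ Nat.card (A ⊕ A) := by
      refine Nat.card_le_card_of_injective (fun m : N => if h : (m : G) ∈ A then Sum.inl ⟨m, h⟩
        else Sum.inr ⟨d⁻¹ * m, hA2 d hd m m.2 hdA h⟩) fun m m' e => ?_
      dsimp only at e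
      split_ifs at e with h1 h2 h2
      · exact Subtype.ext (by simpa using e)
      · exact Subtype.ext (by simpa using e)
    rw [Nat.card_sum] at hle
    have hp2 : IsPGroup 2 N := fun v => ⟨1, Subtype.ext (by rw [pow_one]; exact hexp v v.2)⟩
    obtain ⟨j, hj⟩ := IsPGroup.iff_card.1 hp2
    have hj1 : 2 ≤ j := by
      by_contra hlt
      have hN2 : Nat.card N ≤ 2 := by rw [hj]; calc 2 ^ j ≤ 2 ^ 1 := Nat.pow_le_pow_right two_pos (by omega)
        _ = 2 := by norm_num
      have hd1 : d ≠ 1 := fun e => hdA (e ▸ one_mem _)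
      refine hdA ((hA d).1 ⟨hd, ?_⟩)
      have h1 : a * d * a⁻¹ ∈ N := hNn.conj_mem d hd a
      have h2 : a * d * a⁻¹ = d := by
        by_contra hne2
        have h3 : a * d * a⁻¹ ≠ 1 := fun e => hd1 (conj_eq_one_iff.1 e)
        have h5 : 2 < Nat.card N := by
          haveI := Fintype.ofFinite N
          rw [Nat.card_eq_fintype_card]
          exact Fintype.two_lt_card_iff.2 ⟨(⟨1, N.one_mem⟩ : N), ⟨d, hd⟩, ⟨_, h1⟩, fun e => hd1 (congrArg Subtype.val e).symm,
            fun e => h3 (congrArg Subtype.val e).symm, fun e => hne2 (congrArg Subtype.val e).symm⟩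
        omega
      exact (mul_inv_eq_iff_eq_mul.1 h2).symm
    have h4 : 4 ≤ Nat.card N := by rw [hj]; exact le_trans (by norm_num) (Nat.pow_le_pow_right two_pos hj1)
    omega
  -- the order of the group
  have hG24 : Nat.card G = 24 := by
    let ψ : G →* Equiv.Perm {m : N // m ≠ 1} :=
      { toFun := fun g => Equiv.Perm.subtypePerm (MulAut.toPerm N (MulAut.conjNormal g)) fun m => by
          show MulAut.conjNormal g m ≠ 1 ↔ m ≠ 1
          exact (map_ne_one_iff _ (MulAut.conjNormal g).injective)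
        map_one' := by
          ext m
          simp
        map_mul' := fun g g' => by
          ext m
          show ((MulAut.conjNormal (g * g') m.1 : N) : G) = ((MulAut.conjNormal g (MulAut.conjNormal g' m.1) : N) : G)
          rw [map_mul]; rfl }
    have hψ : ψ.ker = N := by
      refine le_antisymm (fun g hg => ?_) fun g hg => ?_
      · rw [← hcent, mem_centralizer_iff]
        intro m hm
        by_cases hm1 : m = 1
        · rw [hm1, one_mul, mul_one]
        have hm1' : (⟨m, hm⟩ : N) ≠ 1 := fun e => hm1 (congrArg Subtype.val e)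
        have h1 : ψ g ⟨⟨m, hm⟩, hm1'⟩ = ⟨⟨m, hm⟩, hm1'⟩ := by
          rw [MonoidHom.mem_ker.1 hg]; rfl
        have h2 : g * m * g⁻¹ = m :=
          (MulAut.conjNormal_apply g ⟨m, hm⟩).symm.trans (congrArg (fun x => ((x.1 : N) : G)) h1)
        exact (mul_inv_eq_iff_eq_mul.1 h2).symm
      · rw [MonoidHom.mem_ker]
        ext m
        show ((MulAut.conjNormal g m.1 : N) : G) = ((m.1 : N) : G)
        rw [MulAut.conjNormal_apply, (hab g hg m.1 m.1.2).eq, mul_inv_cancel_right]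
    have h6 : Nat.card ψ.range ∣ 6 := by
      have h1 := Subgroup.card_subgroup_dvd_card ψ.range
      have h3 : Nat.card {m : N // m ≠ 1} = 3 := by
        haveI := Fintype.ofFinite N
        rw [Nat.card_eq_fintype_card, Fintype.card_subtype_compl, Fintype.card_subtype_eq, ← Nat.card_eq_fintype_card,
          hN4]
      rwa [Nat.card_perm, h3] at h1
    have hG : Nat.card G = Nat.card ψ.range * 4 := by
      rw [ψ.ker.card_eq_card_quotient_mul_card_subgroup, Nat.card_congr (QuotientGroup.quotientKerEquivRange ψ).toEquiv,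
        hψ, hN4]
    have h2d : 2 ∣ Nat.card ψ.range := by
      obtain ⟨Q, hQ⟩ := hsyl a ha
      obtain ⟨K, hK⟩ := transvection P hab hexp hne hout hcent Q
      have haa := (hK a hQ haN).1
      have ho : orderOf (ψ a) = 2 := by
        refine orderOf_eq_prime ?_ fun e => haN (hψ ▸ MonoidHom.mem_ker.2 e)
        rw [pow_two, ← map_mul]
        exact MonoidHom.mem_ker.1 (hψ.symm ▸ haa)
      have := Subgroup.orderOf_dvd_natCard ψ.range (MonoidHom.mem_range.2 ⟨a, rfl⟩)
      rwa [ho] at this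
    have h3d : 3 ∣ Nat.card ψ.range := by
      have hz : ψ ((a * b) ^ l) ≠ 1 := fun e => hz1 (orderOf_eq_one_iff.1 (hl.eq_one_of_dvd
        (orderOf_dvd_of_pow_eq_one (hexp _ (hψ ▸ MonoidHom.mem_ker.2 e)))))
      have h1 := Subgroup.orderOf_dvd_natCard ψ.range (MonoidHom.mem_range.2 ⟨(a * b) ^ l, rfl⟩)
      have h2 : (orderOf (ψ ((a * b) ^ l))).Coprime 2 := hl.coprime_dvd_left (orderOf_map_dvd ψ _)
      have h3 : orderOf (ψ ((a * b) ^ l)) ∣ 3 := h2.dvd_of_dvd_mul_left (h1.trans h6)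
      rwa [((Nat.dvd_prime Nat.prime_three).1 h3).resolve_left (fun e => hz (orderOf_eq_one_iff.1 e))] at h1
    have h66 : Nat.card ψ.range = 6 := Nat.dvd_antisymm h6 (Nat.Coprime.mul_dvd_of_dvd_of_dvd (by norm_num) h2d h3d)
    rw [hG, h66]
  exact Or.inl (iso_perm_four hN4 hG24 hcent fun z hz v hv hc => hfpf z
    (fun e => by rw [e, orderOf_one] at hz; omega) (by rw [hz]; norm_num) v hv hc)

end Two

include P in
/-- The radical case. -/
theorem radical (hnil : ∀ a : G, a ≠ 1 → Group.IsNilpotent (P.comp a))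
    (hR : ∃ R : Subgroup G, R.Normal ∧ Group.IsSolvable R ∧ R ≠ ⊥) : Concl G := by
  classical
  by_cases hcomp : ∃ a : G, a ≠ 1 ∧ (P.comp a).Normal
  · obtain ⟨a, ha, hn⟩ := hcomp
    haveI := hn
    haveI := hnil a ha
    exact normal_component P ha
  push Not at hcomp
  obtain ⟨R, hRn, hRs, hR1⟩ := hR
  obtain ⟨M, hMR, hMn, hMb, hmin⟩ := Cfsg.Lib.Coprime.exists_minimal_normal hRn hR1
  haveI := hMn
  haveI := hRs
  haveI : Group.IsSolvable M := Group.isSolvable_of_isSolvable_injective (inclusion_injective hMR)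
  obtain ⟨hMc, p, hp, -, hMe⟩ := Cfsg.Lib.Coprime.minimal_normal_solvable (N := M) inferInstance hMb hmin
  haveI := Fact.mk hp
  obtain ⟨N, ⟨hNn, hMN, hab, hexp⟩, hmax⟩ := WellFounded.has_min (wellFounded_gt (α := Subgroup G))
    {N | N.Normal ∧ M ≤ N ∧ (∀ a ∈ N, ∀ b ∈ N, Commute a b) ∧ ∀ a ∈ N, a ^ p = 1}
    ⟨M, hMn, le_rfl, fun a ha b hb => congrArg Subtype.val (hMc.is_comm.comm (⟨a, ha⟩ : M) ⟨b, hb⟩), hMe⟩
  haveI := hNn
  have hne : N ≠ ⊥ := fun e => hMb (le_bot_iff.1 (e ▸ hMN))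
  have hout : ∀ g : G, g ≠ 1 → ¬ N ≤ P.comp g := by
    intro g hg hle
    refine hcomp g hg (Subgroup.normalizer_eq_top_iff.1 (top_le_iff.1 fun h _ => ?_))
    obtain ⟨v, hv, hv1⟩ := (bot_or_exists_ne_one N).resolve_left hne
    exact P.norm_of_mem hg (hle hv) hv1 (hle (hNn.conj_mem v hv h))
  by_cases hp2 : p = 2
  swap
  · exact odd_prime P hab hexp hne hout hp2
  subst hp2
  refine prime_two P hab hexp hne hout (le_antisymm ?_ fun a ha => mem_centralizer_iff.2 fun b hb => (hab b hb a ha).eq)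
  -- the centraliser is elementary abelian
  have he : ∀ e ∈ centralizer (N : Set G), e * e = 1 := by
    intro e he
    by_cases he1 : e = 1
    · rw [he1, one_mul]
    obtain ⟨v, hv, hve⟩ := SetLike.not_le_iff_exists.1 (hout e he1)
    have hv1 : v ≠ 1 := fun h => hve (h ▸ one_mem _)
    have h1 := (P.order_eq hv1 he1 (mem_centralizer_iff.1 he v hv) hve).1
    rw [orderOf_eq_prime (hexp v hv) hv1] at h1
    rw [← pow_two, h1, pow_orderOf_eq_one]
  by_contra hlt
  refine hmax (centralizer (N : Set G)) ⟨inferInstance, fun a ha => mem_centralizer_iff.2 fun b hb =>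
      (hab b hb a (hMN ha)).eq, fun a ha b hb => ?_, fun a ha => (pow_two a).trans (he a ha)⟩
    (lt_of_le_not_ge (fun a ha => mem_centralizer_iff.2 fun b hb => (hab b hb a ha).eq) hlt)
  show a * b = b * a
  calc a * b = (a * b)⁻¹ := (inv_eq_of_mul_eq_one_right (he _ (mul_mem ha hb))).symm
    _ = b * a := by
      rw [mul_inv_rev, inv_eq_of_mul_eq_one_right (he a ha), inv_eq_of_mul_eq_one_right (he b hb)]

end Cfsg.Lib.Partitions
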